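import Groth.Agent.Sga4h.H913.EdgeAff
import Groth.Agent.Sga4A.IntegralSection

/-!
# `H^n(P, r_* F) = H^n(X, F)` for integral `r`, naturally in `F`
-/

set_option autoImplicit false

universe u

open CategoryTheory CategoryTheory.Limits AlgebraicGeometry Opposite CategoryTheory.Abelian
open scoped Groth.Agent.Etcore.EtInst
open Groth.Agent.Etcore.EtInst

namespace K593.T3

open Groth.Agent Groth.Agent.Etcore.PullCoh Groth.Agent.Sga4h.H913 Groth.Agent.Etcore.HpullCalc Groth.Agent.Etcore.HQ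

attribute [local instance] pfl

variable {X P : Scheme.{u}}

theorem edge_bijective (f : X ⟶ P) [IsIntegralHom f] (F : EtCoh.Ab X) (n : ℕ) :
    Function.Bijective (EdgeAff.edge f F n) := by
  have h1 := Etrest.HpullAcyc.cmp_counit_bijective.{u + 1, u + 1} (EtCoh.pull f) (EtCoh.pullPushAdj f)
    (EtCoh.const P ℤ) n F (fun q hq => Groth.Agent.Sga4A.EtSplit.isZero_Rpush f F q hq)
  let Q : Ext ((EtCoh.pull f).obj (EtCoh.const P ℤ)) F n → Ext (EtCoh.const X ℤ) F n :=
    fun e => (Ext.mk₀ (EtCore.pullConst f ℤ).inv).comp e (zero_add n)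
  have h3 : Function.Bijective Q := by
    constructor
    · intro a b h
      have := congrArg (fun e => (Ext.mk₀ (EtCore.pullConst f ℤ).hom).comp e (zero_add n)) h
      simpa only [Q, Ext.mk₀_comp_mk₀_assoc, Iso.hom_inv_id, Ext.mk₀_id_comp] using this
    · intro a
      refine ⟨(Ext.mk₀ (EtCore.pullConst f ℤ).hom).comp a (zero_add n), ?_⟩
      simp only [Q, Ext.mk₀_comp_mk₀_assoc, Iso.inv_hom_id]
      exact Ext.mk₀_id_comp _
  have h4 : ⇑(EdgeAff.edge f F n) = Q ∘ ⇑(Etbase.ExtCompare.cmp.{u + 1, u + 1} (F := F) (EtCoh.pull f)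
      (EtCoh.const P ℤ) ((EtCoh.pullPushAdj f).counit.app F) n) := by
    funext x
    rw [EdgeAff.edge_apply, hp_apply, Function.comp_apply, Etbase.ExtCompare.cmp_apply, HHmap_apply]
    exact Ext.comp_assoc_of_third_deg_zero _ _ _ _
  rw [h4]
  exact h3.comp h1

/-- Cohomology of direct images along integral morphisms. -/
theorem exists_edge (r : X ⟶ P) [IsIntegralHom r] (n : ℕ) :
    ∃ e : ∀ F : EtCoh.Ab X, EtCoh.H P ((EtCoh.push r).obj F) n →+ EtCoh.H X F n, (∀ F, Function.Bijective (e F)) ∧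
      ∀ (F G : EtCoh.Ab X) (φ : F ⟶ G) (x : EtCoh.H P ((EtCoh.push r).obj F) n),
        e G (Sheaf.H.map ((EtCoh.push r).map φ) n x) = Sheaf.H.map φ n (e F x) :=
  ⟨fun F => EdgeAff.edge r F n, fun F => edge_bijective r F n, fun _ _ φ x => EdgeAff.edge_map r φ n x⟩

end K593.T3
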