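import Groth.Agent.EtCoh.K593.Maps
import Groth.Agent.EtCoh.K593.Edge
import Groth.Agent.EtCoh.K56.Fin
import Groth.Agent.EtCoh.K769.Les
import Groth.Agent.EtCoh.K956.Count

/-!
# Injectivity of `H³(X, N) → H³(P, om 1)` and the statement INJ from a trace package
-/

set_option autoImplicit false
set_option linter.unusedSectionVars false

universe u

open CategoryTheory CategoryTheory.Limits AlgebraicGeometry Opposite
open K611.Gam K611.Gam2 K611.Frame K611.Top K611.Sh K611.Seq K611.Seq2 K720.Sym K720.Tw K720.Nu K720.Lev1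
open K56.T4.Abs

noncomputable section

namespace K593.T3

attribute [local instance 3000] K554.Mv.hsE K554.Mv.hxE

variable {P X : Scheme.{u}} {r : X ⟶ P} [IsIntegralHom r] {p N : ℕ} [hp : Fact p.Prime] {h : (p : Γ(X, ⊤)) = 0}
  {F : EtCoh.Ab P} {S : F ⟶ F} (M : TrPack r p N h F S)

/-- The direct image of `N → Ω² → Ω²/dΩ¹`. -/
abbrev S1 (r : X ⟶ P) (h : (p : Γ(X, ⊤)) = 0) : ShortComplex (EtCoh.Ab P) := (seqN (X := X) h).map (EtCoh.push r)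

theorem S1_shortExact (hX : HasCharts X (GoodN p 2)) : (S1 r h).ShortExact := by
  have := Groth.Agent.Sga4A.EtSplit.preservesFiniteColimits_push r
  exact (seqN_shortExact h hX).map_of_exact (EtCoh.push r)

theorem S1f_tK : (S1 r h).f ≫ tK M ≫ (𝟙 (K56.T4.Abs.K F p 1) - SK S p 1) = 0 := by
  change (EtCoh.push r).map (Nι h) ≫ tK M ≫ _ = 0
  rw [← Category.assoc, ← tN_ok, Category.assoc]
  have : ok S p 1 ≫ (𝟙 (K56.T4.Abs.K F p 1) - SK S p 1) = 0 := kernel.condition _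
  rw [this, comp_zero]

theorem exists_tQ (hX : HasCharts X (GoodN p 2)) : ∃ t : (EtCoh.push r).obj (sh Q2F X) ⟶ K56.T4.Abs.K F p 1,
    (EtCoh.push r).map ((cg2N p).sh h) ≫ t = tK M ≫ (𝟙 (K56.T4.Abs.K F p 1) - SK S p 1) := by
  have hS := S1_shortExact (r := r) (h := h) hX
  exact ⟨hS.gIsCokernel.desc (CokernelCofork.ofπ _ (S1f_tK M)), hS.gIsCokernel.fac _ WalkingParallelPair.one⟩

theorem app_sub {G H : EtCoh.Ab P} (a b : G ⟶ H) (V : P.Etale) (s : EtCoh.sect G V) :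
    (a - b).hom.app (op V) s = a.hom.app (op V) s - b.hom.app (op V) s := rfl

theorem gam_tQ (hX : HasCharts X (GoodN p 2)) (t : (EtCoh.push r).obj (sh Q2F X) ⟶ K56.T4.Abs.K F p 1)
    (ht : (EtCoh.push r).map ((cg2N p).sh h) ≫ t = tK M ≫ (𝟙 (K56.T4.Abs.K F p 1) - SK S p 1)) :
    (EtCoh.push r).map ((gam2N p).sh h) ≫ t = -tK M := by
  rw [← cancel_mono (ki F p 1), Preadditive.neg_comp, tK_ki]
  refine push_hom_ext M.bas (surjPush_om2 r) fun V hV η => ?_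
  have e1 : (-tm M).hom.app (op V) (un Om2F ((EtCoh.bc r).obj V) η) = - M.TR V hV η := by
    rw [← tm_un M V hV η]
    rfl
  rw [e1]
  set a : EtCoh.sect (sh Q2F X) ((EtCoh.bc r).obj V) := ap ((gam2N p).sh h) _ (un Om2F ((EtCoh.bc r).obj V) η) with ha
  change (ki F p 1).hom.app (op V) (t.hom.app (op V) a) = _
  have hepi : Epi ((EtCoh.push r).map ((cg2N p).sh (X := X) h)) := (S1_shortExact (r := r) (h := h) hX).epi_g
  rw [Groth.Agent.Dix.EtaleSieve.epi_iff] at hepi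
  refine Groth.Agent.Etbase.EtSite.sect_ext F V _ _ fun x => ?_
  obtain ⟨V₁, g₁, ⟨v₁, hv₁⟩, s₁, hs₁⟩ := hepi V a x
  obtain ⟨V₂, g₂, v₂, hv₂, hV₂⟩ := M.bas V₁ v₁
  refine ⟨V₂, g₂ ≫ g₁, v₂, ?_, ?_⟩
  · change (g₂.left ≫ g₁.left) v₂ = x
    rw [Scheme.Hom.comp_apply, hv₂, hv₁]
  obtain ⟨η', hη'⟩ := exists_om2 M V₂ hV₂ ((sh Om2F X).obj.map ((EtCoh.bc r).map g₂).op s₁)
  have e2 : ap ((cg2N p).sh h) ((EtCoh.bc r).obj V₂) (un Om2F _ η') =
      (sh Q2F X).obj.map ((EtCoh.bc r).map (g₂ ≫ g₁)).op a := by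
    have h1 : (sh Q2F X).obj.map ((EtCoh.bc r).map g₂).op (((cg2N p).sh h).hom.app (op ((EtCoh.bc r).obj V₁)) s₁) =
        (sh Q2F X).obj.map ((EtCoh.bc r).map g₂).op ((sh Q2F X).obj.map ((EtCoh.bc r).map g₁).op a) :=
      congrArg _ hs₁
    rw [Functor.map_comp, ← map_comp_app, ← h1, hη']
    exact nat_app ((cg2N p).sh h).hom ((EtCoh.bc r).map g₂) s₁
  set η₂ : Om2 (RB r V₂) := omap2 (rb r (g₂ ≫ g₁)) η with hη₂
  have e3 : (sh Q2F X).obj.map ((EtCoh.bc r).map (g₂ ≫ g₁)).op a =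
      ap ((gam2N p).sh h) ((EtCoh.bc r).obj V₂) (un Om2F _ η₂) := by
    have h1 : un Om2F ((EtCoh.bc r).obj V₂) η₂ = (sh Om2F X).obj.map ((EtCoh.bc r).map (g₂ ≫ g₁)).op (un Om2F _ η) :=
      un_res Om2F ((EtCoh.bc r).map (g₂ ≫ g₁)) η
    rw [h1, ha]
    exact (nat_app ((gam2N p).sh h).hom ((EtCoh.bc r).map (g₂ ≫ g₁)) _).symm
  have hsub : ∀ z : EtCoh.sect (sh Om2F X) ((EtCoh.bc r).obj V₂), ap ((cg2N p).sh h) _ z =
      ap ((cl2N p).sh h) _ z - ap ((gam2N p).sh h) _ z := by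
    intro z
    have h3 : (cg2N p).sh h = (cl2N p).sh h - (gam2N p).sh (X := X) h := NT.sh_sub _ _ _
    rw [h3]
    rfl
  have e4 : ap ((cl2N p).sh h) ((EtCoh.bc r).obj V₂) (un Om2F _ η') =
      ap ((gam2N p).sh h) ((EtCoh.bc r).obj V₂) (un Om2F _ (η₂ + η')) := by
    have h1 := e2.trans e3
    rw [hsub, sub_eq_iff_eq_add] at h1
    rw [h1, ← map_add]
    congr 1
    exact (map_add (un Om2F ((EtCoh.bc r).obj V₂)) _ _).symm
  have e5 := M.TR_S V₂ hV₂ η' (η₂ + η') e4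
  -- the value of `t`
  have e6 : (ki F p 1).hom.app (op V₂) (t.hom.app (op V₂) ((sh Q2F X).obj.map ((EtCoh.bc r).map (g₂ ≫ g₁)).op a)) =
      M.TR V₂ hV₂ η' - S.hom.app (op V₂) (M.TR V₂ hV₂ η') := by
    rw [← e2]
    have h1 := congrArg (fun f : (EtCoh.push r).obj (sh Om2F X) ⟶ K56.T4.Abs.K F p 1 =>
      f.hom.app (op V₂) (un Om2F ((EtCoh.bc r).obj V₂) η')) ht
    have h2 : t.hom.app (op V₂) (ap ((cg2N p).sh h) ((EtCoh.bc r).obj V₂) (un Om2F _ η')) =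
      (𝟙 (K56.T4.Abs.K F p 1) - SK S p 1).hom.app (op V₂) ((tK M).hom.app (op V₂) (un Om2F ((EtCoh.bc r).obj V₂) η')) := h1
    rw [h2, one_sub_SK_app, map_sub, ki_SK]
    have h3 : (ki F p 1).hom.app (op V₂) ((tK M).hom.app (op V₂) (un Om2F ((EtCoh.bc r).obj V₂) η')) = M.TR V₂ hV₂ η' := by
      rw [← tm_un M V₂ hV₂ η']
      exact congrArg (fun f : (EtCoh.push r).obj (sh Om2F X) ⟶ F => f.hom.app (op V₂)
        (un Om2F ((EtCoh.bc r).obj V₂) η')) (tK_ki M)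
    rw [h3]
  have e7 : F.obj.map (g₂ ≫ g₁).op ((ki F p 1).hom.app (op V) (t.hom.app (op V) a)) =
      (ki F p 1).hom.app (op V₂) (t.hom.app (op V₂) ((sh Q2F X).obj.map ((EtCoh.bc r).map (g₂ ≫ g₁)).op a)) := by
    rw [← nat_app (ki F p 1).hom]
    congr 1
    exact (nat_app t.hom (g₂ ≫ g₁) a).symm
  have e8 : S.hom.app (op V₂) (M.TR V₂ hV₂ η') = M.TR V₂ hV₂ (η₂ + η') := e5
  rw [e7, e6, e8, map_neg, ← M.TR_nat V V₂ hV hV₂ (g₂ ≫ g₁) η, map_add]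
  abel

/-! ### Cohomology -/

section coh

open CategoryTheory.Abelian (Ext)

theorem H_map_add_hom {G H : EtCoh.Ab P} (a : G ⟶ H) (n : ℕ) (x : EtCoh.H P G n) :
    Sheaf.H.map (-a) n x = -Sheaf.H.map a n x := by
  rw [Sheaf.H.map_apply, Sheaf.H.map_apply]
  have : Ext.mk₀ (-a) = -Ext.mk₀ a := Ext.mk₀_neg a
  rw [this, Ext.comp_neg]

theorem H_map_add {G H : EtCoh.Ab P} (a b : G ⟶ H) (n : ℕ) (x : EtCoh.H P G n) :
    Sheaf.H.map (a + b) n x = Sheaf.H.map a n x + Sheaf.H.map b n x := by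
  rw [Sheaf.H.map_apply, Sheaf.H.map_apply, Sheaf.H.map_apply, Ext.mk₀_add, Ext.comp_add]

theorem H_map_sub {G H : EtCoh.Ab P} (a b : G ⟶ H) (n : ℕ) (x : EtCoh.H P G n) :
    Sheaf.H.map (a - b) n x = Sheaf.H.map a n x - Sheaf.H.map b n x := by
  rw [sub_eq_add_neg, H_map_add, H_map_add_hom, ← sub_eq_add_neg]

theorem H_map_comp {G H L : EtCoh.Ab P} (a : G ⟶ H) (b : H ⟶ L) (n : ℕ) (x : EtCoh.H P G n) :
    Sheaf.H.map (a ≫ b) n x = Sheaf.H.map b n (Sheaf.H.map a n x) := Sheaf.H.map_comp_apply _ _ _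

/-- The connecting homomorphism. -/
def dH {A : ShortComplex (EtCoh.Ab P)} (hA : A.ShortExact) (x : EtCoh.H P A.X₃ 2) : EtCoh.H P A.X₁ 3 :=
  Ext.comp x hA.extClass rfl

theorem dH_nat {A A' : ShortComplex (EtCoh.Ab P)} (hA : A.ShortExact) (hA' : A'.ShortExact) (φ : A ⟶ A')
    (x : EtCoh.H P A.X₃ 2) : dH hA' (Sheaf.H.map φ.τ₃ 2 x) = Sheaf.H.map φ.τ₁ 3 (dH hA x) := by
  rw [Sheaf.H.map_apply, Sheaf.H.map_apply]
  unfold dH
  rw [Ext.comp_assoc_of_third_deg_zero, Ext.comp_assoc_of_second_deg_zero,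
    ShortComplex.ShortExact.extClass_naturality hA hA' φ]

theorem dH_eq_zero {A : ShortComplex (EtCoh.Ab P)} (hA : A.ShortExact) (x : EtCoh.H P A.X₃ 2) (hx : dH hA x = 0) :
    ∃ y : EtCoh.H P A.X₂ 2, Sheaf.H.map A.g 2 y = x :=
  Ext.covariant_sequence_exact₃ _ hA x rfl hx

/-- The trace on `H³(N)` is nonzero. -/
theorem exists_tN_ne (hX : HasCharts X (GoodN p 2)) (hL : LocSurj₁ S p)
    (hx : ∃ x : EtCoh.H P ((EtCoh.push r).obj (sh Om2F X)) 2, Sheaf.H.map (tK M) 2 x ≠ 0)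
    (hS : ∀ z : EtCoh.H P (K56.T4.Abs.K F p 1) 2, Sheaf.H.map (SK S p 1) 2 z = z) :
    ∃ x : EtCoh.H P ((EtCoh.push r).obj (Nsh h)) 3, Sheaf.H.map (tN M) 3 x ≠ 0 := by
  obtain ⟨x, hx⟩ := hx
  obtain ⟨t, ht⟩ := exists_tQ M hX
  have h1 := S1_shortExact (r := r) (h := h) hX
  have h2 := scK_shortExact S p hL
  let φ : S1 r h ⟶ scK S p 1 :=
    { τ₁ := tN M
      τ₂ := tK M
      τ₃ := t
      comm₁₂ := tN_ok M
      comm₂₃ := ht.symm }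
  let y : EtCoh.H P ((EtCoh.push r).obj (sh Q2F X)) 2 := Sheaf.H.map ((EtCoh.push r).map ((gam2N p).sh h)) 2 x
  have hy : Sheaf.H.map t 2 y = -Sheaf.H.map (tK M) 2 x := by
    rw [← H_map_add_hom, ← gam_tQ M hX t ht, H_map_comp]
  refine ⟨dH h1 y, fun h0 => hx ?_⟩
  have h3 : dH h2 (Sheaf.H.map t 2 y) = Sheaf.H.map (tN M) 3 (dH h1 y) := dH_nat h1 h2 φ y
  obtain ⟨w, hw⟩ := dH_eq_zero h2 (Sheaf.H.map t 2 y) (h3.trans h0)
  have h4 : Sheaf.H.map (𝟙 (K56.T4.Abs.K F p 1) - SK S p 1) 2 w = 0 := by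
    rw [H_map_sub, hS, Sheaf.H.map_id_apply, sub_self]
  have h5 : Sheaf.H.map t 2 y = 0 := hw.symm.trans h4
  rw [hy, neg_eq_zero] at h5
  exact h5

end coh

end K593.T3
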