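import Groth.Agent.EtCoh.K720.Lev1Tw
import Groth.Agent.EtCoh.K611.Fin
import Groth.Agent.EtCoh.K611.Surf
import Groth.Agent.Krr.H495.ExtExist
import Groth.Agent.EtCoh.K956.Count

/-!
# `H³(X, N)` is cyclic of order dividing `p`, for a surface over a finite field
-/

set_option autoImplicit false

universe u

open CategoryTheory CategoryTheory.Limits AlgebraicGeometry Opposite TopologicalSpace

noncomputable section

namespace K593.Cyc

open K611.Sh K611.Seq K611.Seq2 K611.Om K611.Zar K611.Glue K611.Exact K611.Cart K611.Dict K611.Dual K611.VanEt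
  K611.Pair K611.Calc K611.Count K611.Curve K611.NodeT K611.Charts2 K611.Fin K611.Surf K720.Lev1

/-- A finite group killed by `p` of order at most `p` embeds into `ℚ/ℤ`. -/
theorem exists_embedding (p : ℕ) [hp : Fact p.Prime] (G : Type*) [AddCommGroup G] [Finite G]
    (hG : ∀ x : G, p • x = 0) (hc : Nat.card G ≤ p) : ∃ t : G →+ K956.Count.T, Function.Injective t := by
  by_cases h0 : ∀ x : G, x = 0
  · exact ⟨0, fun a b _ => (h0 a).trans (h0 b).symm⟩
  push Not at h0
  obtain ⟨x, hx⟩ := h0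
  have h1 : addOrderOf x = p := addOrderOf_eq_prime (hG x) hx
  have h2 : p ∣ Nat.card G := h1 ▸ addOrderOf_dvd_natCard x
  have h3 : Nat.card G = p := le_antisymm hc (Nat.le_of_dvd Nat.card_pos h2)
  have h4 : Fact (Nat.card G).Prime := ⟨h3 ▸ hp.out⟩
  obtain ⟨t, ht⟩ := CharacterModule.exists_character_apply_ne_zero_of_ne_zero hx
  let t' : G →+ K956.Count.T := t
  refine ⟨t', ?_⟩
  rcases AddSubgroup.eq_bot_or_eq_top_of_prime_card t'.ker with h5 | h5
  · exact (AddMonoidHom.ker_eq_bot_iff t').1 h5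
  · exact absurd (show x ∈ t'.ker by rw [h5]; trivial) ht

theorem un_ga_bijective {X : Scheme.{u}} (U : X.Etale) :
    Function.Bijective (fun a : GaF.obj Γ(U.left, ⊤) => un GaF U a) := by
  have h1 : IsIso ((gaIso X).hom.hom.app (op U)) := by
    have : IsIso (gaIso X).hom.hom := inferInstanceAs (IsIso ((sheafToPresheaf _ _).map (gaIso X).hom))
    infer_instance
  have h2 := (ConcreteCategory.isIso_iff_bijective _).1 h1
  have h3 : ∀ a : GaF.obj Γ(U.left, ⊤), (gaIso X).hom.hom.app (op U) (ULift.up a : ULift.{u + 1} Γ(U.left, ⊤)) =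
      un GaF U a := fun a => gaIso_app X U a
  refine ⟨fun a b hab => ?_, fun s => ?_⟩
  · have h4 : (gaIso X).hom.hom.app (op U) (ULift.up a : ULift.{u + 1} Γ(U.left, ⊤)) =
        (gaIso X).hom.hom.app (op U) (ULift.up b : ULift.{u + 1} Γ(U.left, ⊤)) :=
      (h3 a).trans (Eq.trans hab (h3 b).symm)
    exact congrArg ULift.down (h2.1 h4)
  · obtain ⟨a, ha⟩ := h2.2 s
    exact ⟨ULift.down (show ULift.{u + 1} Γ(U.left, ⊤) from a), (h3 _).symm.trans ha⟩

/-- At most `p` solutions of `a ^ p = a`. -/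
theorem card_roots_le (R : Type*) [CommRing R] [IsDomain R] (p : ℕ) (hp : 1 < p) (S : Type*) (g : S → R)
    (hg : Function.Injective g) (h : ∀ s, g s ^ p = g s) : Nat.card S ≤ p := by
  classical
  have hPd : (Polynomial.X ^ p - Polynomial.X : Polynomial R).natDegree = p := by
    rw [Polynomial.natDegree_sub_eq_left_of_natDegree_lt, Polynomial.natDegree_X_pow]
    rw [Polynomial.natDegree_X, Polynomial.natDegree_X_pow]
    exact hp
  have hP0 : (Polynomial.X ^ p - Polynomial.X : Polynomial R) ≠ 0 := by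
    intro h0
    rw [h0, Polynomial.natDegree_zero] at hPd
    omega
  have hm : ∀ b, g b ∈ (Polynomial.X ^ p - Polynomial.X : Polynomial R).roots.toFinset := by
    intro b
    rw [Multiset.mem_toFinset, Polynomial.mem_roots hP0, Polynomial.IsRoot.def,
      Polynomial.eval_sub, Polynomial.eval_pow, Polynomial.eval_X, sub_eq_zero]
    exact h b
  refine (Nat.card_le_card_of_injective
    (fun b => (⟨g b, hm b⟩ : (Polynomial.X ^ p - Polynomial.X : Polynomial R).roots.toFinset)) fun b b' hbb' => hg (congrArg Subtype.val hbb')).trans ?_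
  rw [Nat.card_eq_fintype_card, Fintype.card_coe]
  exact (Multiset.toFinset_card_le _).trans ((Polynomial.card_roots' _).trans hPd.le)

/-- The fixed points of Frobenius on global functions. -/
theorem card_fix_le {X : Scheme.{u}} [AlgebraicGeometry.IsIntegral X] {p : ℕ} [hp : Fact p.Prime]
    (h : (p : Γ(X, ⊤)) = 0) :
    Nat.card {b : EtCoh.sect (sh GaF X) (T0 X) // ((frobN p).sh h).hom.app (op (T0 X)) b = b} ≤ p := by
  have hne : Nonempty (T0 X).left := ⟨(Scheme.topIso X).inv (Nonempty.some inferInstance)⟩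
  have hint : AlgebraicGeometry.IsIntegral (T0 X).left := isIntegral_of_isOpenImmersion (Scheme.topIso X).hom
  have hdom : IsDomain Γ((T0 X).left, ⊤) := inferInstance
  have key : ∀ b : {b : EtCoh.sect (sh GaF X) (T0 X) // ((frobN p).sh h).hom.app (op (T0 X)) b = b},
      ∃ a : GaF.obj Γ((T0 X).left, ⊤), un GaF (T0 X) a = b.1 ∧ toB a ^ p = toB a := by
    intro b
    obtain ⟨a, ha⟩ := (un_ga_bijective (T0 X)).2 b.1
    have ha' : un GaF (T0 X) a = b.1 := ha
    refine ⟨a, ha', ?_⟩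
    have e3 : ((frobN p).sh h).hom.app (op (T0 X)) (un GaF (T0 X) a) =
        un GaF (T0 X) (toB a ^ p : Γ((T0 X).left, ⊤)) := NT.sh_un (frobN p) h (T0 X) a
    rw [ha', b.2, ← ha'] at e3
    exact ((un_ga_bijective (T0 X)).1 e3).symm
  refine card_roots_le Γ((T0 X).left, ⊤) p hp.out.one_lt _ (fun b => toB (key b).choose) ?_
    fun b => (key b).choose_spec.2
  intro b b' hbb'
  apply Subtype.ext
  rw [← (key b).choose_spec.1, ← (key b').choose_spec.1]
  exact congrArg (un GaF (T0 X)) hbb'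

section

variable (k : Type u) [Field k] [Finite k] (p : ℕ) [hp : Fact p.Prime] [CharP k p] (X : Scheme.{u})
  (f : X ⟶ Spec (.of k)) [AlgebraicGeometry.IsIntegral X] [IsProper f] [SmoothOfRelativeDimension 2 f]
  (h : (p : Γ(X, ⊤)) = 0)

include k p f in
/-- **hcyc**: `H³(X, N)` is cyclic. -/
theorem hcyc : ∃ t : EtCoh.H X (Nsh h) 3 →+ K956.Count.T, Function.Injective t := by
  have hX := hasChartsN p k X f 2
  have h𝓑 := base k p X f 2
  have hga := van_ga k p X f 2 h
  have hom := van_om k p X f 2 h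
  have hs : Function.Surjective (Sheaf.H.map ((TD2 p).cl.sh (X := X) h) 2) := surj_cl2' h hX 2 hga hom
  obtain ⟨L, hLf, hL⟩ := Groth.Agent.Krr.H495.ExtExist.exists_isExtPow 2 (Omega.sheaf f)
    (Groth.Agent.Ega2.QCohLocal.isFinLocFree_of_rank
      (Groth.Agent.Dual.H339.OmegaRank.isFinLocFreeOfRank_omega 2 f))
  have hLc : Coh.IsCoh L := Groth.Agent.PerfA.CohSerre.isCoh_of_isFinLocFree hLf
  obtain ⟨T⟩ := K611.Om2L.exists_om2L (p := p) f hL h
  obtain ⟨t, ht, hd⟩ := main_t k p X f 2 (Or.inr rfl) (TD2 p) h L hLc hL T hs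
  have hN := noeth k X f
  have hom2 : Van 2 (sh Om2F X) :=
    van_sh (om2BC p) h (Groth.Agent.Lefpen.H716.CIGeom.topologicalKrullDim_le_of_smooth 2 f) T.toMod
  have fin2 : ∀ i, Finite (EtCoh.H X (sh Om2F X) i) := fun i =>
    (T.toMod.cmp (om2BC p) h i).toEquiv.finite_iff.1 (finite_HH k X f _ hLc i)
  have hiso : IsIso ((gam2N p).sh (X := X) h) := isIso_gam (TD2 p) h hX
  have finQ : ∀ i, Finite (EtCoh.H X (sh Q2F X) i) := fun i =>
    (Hcongr (asIso ((gam2N p).sh (X := X) h)) i).toEquiv.finite_iff.1 (fin2 i)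
  have finN : ∀ i, Finite (EtCoh.H X (Nsh h) i) := fun i =>
    finite_H₁ (seqN_shortExact h hX) fin2 finQ i
  have hk2 : p • 𝟙 (sh Om2F X) = 0 := nsmul_id_bc (om2BC p) h
  have hkN : p • 𝟙 (Nsh h) = 0 := by
    rw [← cancel_mono (Nι h), Preadditive.nsmul_comp, Category.id_comp, zero_comp]
    have e : Nι h ≫ (p • 𝟙 (sh Om2F X)) = p • Nι h := by
      rw [Preadditive.comp_nsmul, Category.comp_id]
    rw [← e, hk2, comp_zero]
  have hk : ∀ x : EtCoh.H X (Nsh h) 3, p • x = 0 := fun x => nsmul_H hkN 3 x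
  have c3 := card_H_succ (seqN_shortExact h hX) 2 (hom2 3 (by norm_num)) hk (finN 3)
  have a1 := card_A h (TD2 p) hX h𝓑 T t ht (hd _ hLc.1)
  have b1 : Nat.card {l : EtCoh.H X (sh Q2F X) 2 →+ ZMod p //
      ∀ y, l (Sheaf.H.map ((cg2N p).sh (X := X) h) 2 y) = 0} =
      Nat.card {b : EtCoh.sect (sh GaF X) (T0 X) // ((frobN p).sh h).hom.app (op (T0 X)) b = b} := by
    have e : (cg2N p).sh (X := X) h = (TD2 p).cl.sh h - (TD2 p).gam.sh h := NT.sh_sub _ _ h
    rw [e]
    exact a1
  have := finN 3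
  exact exists_embedding p _ hk ((c3.trans b1).le.trans (card_fix_le h))

end

end K593.Cyc
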