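import Groth.Agent.EtCoh.K593.Final
import Groth.Agent.EtCoh.K958.Pack
import Groth.Agent.EtCoh.K609.Cover

/-!
# INJ for a projective smooth surface over a finite field
-/

set_option autoImplicit false
set_option linter.unusedSectionVars false

universe u

open CategoryTheory CategoryTheory.Limits AlgebraicGeometry Opposite TopologicalSpace
open K611.Gam K611.Gam2 K611.Frame K611.Top K611.Sh K611.Seq K611.Seq2 K720.Sym K720.Tw K720.Nu K720.Lev1
open K56.T4 K56.T4.Abs

noncomputable section

namespace K593.T3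

attribute [local instance 3000] K554.Mv.hsE K554.Mv.hxE

/-- **INJ** for a projective smooth surface over a finite field. -/
theorem INJ {p : ℕ} [Fact p.Prime] (k : Type u) [Field k] [Finite k] [CharP k p]
    {X : Scheme.{u}} (f : X ⟶ Spec (.of k)) [AlgebraicGeometry.IsIntegral X]
    (hproj : Neron.IsProjectiveOver k (Over.mk f)) [SmoothOfRelativeDimension 2 f]
    (h : (p : Γ(X, ⊤)) = 0) (hX : HasCharts X (GoodN p 2))
    (hcyc : ∃ t : EtCoh.H X (Nsh h) 3 →+ K956.Count.T, Function.Injective t)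
    {n : ℕ} (hn : 1 ≤ n)
    (z : EtCoh.H X (sh (QnF p) X) 3) (hz : Sheaf.H.map ((vN n hn).sh h) 3 z = 0) :
    Sheaf.H.map (s h) 3 z = 0 := by
  obtain ⟨r, h1, h2, h3⟩ := K609.Cover.exists_cover k p X f hproj (n + 1) (Nat.succ_pos n)
  have h4 : IsIntegralHom r := inferInstance
  obtain ⟨M, -, hM⟩ := K958.Pack.exists_pack (r := r) (D := Dz.{u} p (n + 1)) (Nat.succ_pos n)
    (hasTor p (n + 1) (Nat.le_add_left 1 n)) h3 h
  exact inj_pack hn h r M hM hX hcyc z hz

end K593.T3
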