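import Groth.Agent.EtCoh.K720.N1F
import Groth.Agent.EtCoh.K103.D1
import Groth.Agent.EtCoh.K154.NodeN0
import Groth.Agent.EtCoh.K593.Cyc

/-!
# The level one inputs of the duality theorem on surfaces
-/

set_option autoImplicit false

universe u

open CategoryTheory CategoryTheory.Limits AlgebraicGeometry Opposite TopologicalSpace

noncomputable section

namespace K593.Lev1

open K611.Sh K611.Seq K611.Seq2 K611.Om K611.Zar K611.Glue K611.Exact K611.Cart K611.Dict K611.Dual K611.VanEt
  K611.Pair K611.Calc K611.Count K611.Curve K611.NodeT K611.Charts2 K611.Fin K611.Surf K720.Tw K720.Pair K720.Nu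
  K720.Lev1 K720.Equi

variable (k : Type u) [Field k] [Finite k] (p : ℕ) [hp : Fact p.Prime] [CharP k p] (X : Scheme.{u})
  (f : X ⟶ Spec (.of k)) [AlgebraicGeometry.IsIntegral X] [IsProper f] [SmoothOfRelativeDimension 2 f]
  (h : (p : Γ(X, ⊤)) = 0)

include k f h

theorem fin (i : ℕ) : Finite (EtCoh.H X (cokernel (EtCoh.powMap X p)) i) :=
  (Hcongr (nuIso (X := X) h) i).toEquiv.finite_iff.2 (fin_nu k p X f 2 h i)

theorem van : Subsingleton (EtCoh.H X (cokernel (EtCoh.powMap X p)) 4) :=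
  have := van_nu k p X f 2 h 4 (by norm_num)
  (Hcongr (nuIso (X := X) h) 4).toEquiv.subsingleton

theorem n0 (a : Gs (sh (nuF p) X)) (ha : ∀ y : EtCoh.H X (sh (nuF p) X) 3, Sheaf.H.map (left (bN h) a) 3 y = 0) :
    a = 0 := by
  obtain ⟨t, ht, h1⟩ := K38.D0.exists_trace k p X f h
  have hX2 := hasChartsN p k X f 2
  exact K154.NodeN0.main h (charts_good hX2) hX2 t ht h1 (K720.N1.s2 k p X f h)
    (fun t ht θ hθ => K103.D1.wedge_nondeg k p X f h t ht θ hθ) a ha

end K593.Lev1
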