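import Groth.Agent.EtCoh.K769.Final
import Groth.Agent.EtCoh.K593.Lev1
import Groth.Agent.EtCoh.K593.InjX
import Groth.Agent.S18106
import Groth.Agent.EtCoh.K154.FlatMu

/-!
# The duality theorem on surfaces
-/

set_option autoImplicit false
universe u
open CategoryTheory CategoryTheory.Limits CategoryTheory.Abelian AlgebraicGeometry Opposite
open K769.Coef K769.Les K769.Count K769.Pair K720.Tw K769.Formal K769.TorMap K769.Bridge
open K611.Sh K611.Seq K720.Sym K720.Pair K720.Nu K720.Equi K769.Final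

attribute [local instance 3000] K769.Inst.hsE K769.Inst.hxE

noncomputable section

namespace K593.Fin07

section

variable {X : Scheme.{u}} {p : ℕ} (h : (p : Γ(X, ⊤)) = 0)
variable {N3 : EtCoh.Ab X} (s : sh (QnF p) X ⟶ N3)

/-- The points of a torsor form a sheaf. -/
def IsLoc {A : EtCoh.Ab X} (T : Tor A) : Prop :=
  ∀ (V : X.Etale) (s : EtCoh.sect T.G V), (∀ x : V.left, ∃ (W : X.Etale) (k : W ⟶ V) (w : W.left),
      k.left w = x ∧ rs T.G k s ∈ T.P W) → s ∈ T.P V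

theorem isLoc_ofSES (S : ShortComplex (EtCoh.Ab X)) (hS : S.ShortExact) (a : ∀ V : X.Etale, EtCoh.sect S.X₃ V)
    (ha : ∀ {V W : X.Etale} (k : W ⟶ V), rs S.X₃ k (a V) = a W) : IsLoc (Tor.ofSES S hS a ha) := by
  intro V s hs
  change ap S.g V s = a V
  refine Groth.Agent.Etbase.EtSite.sect_ext _ V _ _ fun x => ?_
  obtain ⟨W, k, w, hw, hk⟩ := hs x
  refine ⟨W, k, w, hw, ?_⟩
  have e1 : ap S.g W (rs S.X₂ k s) = a W := hk
  have e2 : rs S.X₃ k (ap S.g V s) = ap S.g W (rs S.X₂ k s) := (ap_rs S.g k s).symm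
  exact e2.trans (e1.trans (ha k).symm)

theorem isLoc_mapIso {A A' : EtCoh.Ab X} (T : Tor A) (e : A ≅ A') (hT : IsLoc T) : IsLoc (mapIso T e) := hT

theorem isLoc_torL [Mono (p • 𝟙 (EtCoh.Gm X))] (n : ℕ) (a : ZZ X ⟶ nu X p n) : IsLoc (torL n a) :=
  isLoc_ofSES (ses (EtCoh.Gm X) p (m := 1) (k := n) (n := n + 1) (add_comm 1 n)) (shortExact _ p _) (fam a)
    (fun k => rs_fam a k)

/-- The formal theorem, for `EE`, with a locality hypothesis in `N1`. -/
theorem mainE (hp : p.Prime) [Mono (p • 𝟙 (EtCoh.Gm X))] (t : EE N3 3 →+ K956.Count.T)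
    (hfin : ∀ i ≤ 3, Finite (EE (nu X p 1) i)) (hv : Subsingleton (EE (nu X p 1) 4))
    (h03 : Nat.card (EE (nu X p 1) 0) = Nat.card (EE (nu X p 1) 3))
    (h12 : Nat.card (EE (nu X p 1) 1) = Nat.card (EE (nu X p 1) 2))
    (INJ : ∀ n (hn : 1 ≤ n) (z : EE (sh (QnF p) X) 3),
      hmE ((mulN TnF p p (p ^ n) (p ^ (n - 1)) (dvd_pow_pred p hn)).sh h) 3 z = 0 → t (hmE s 3 z) = 0)
    (N0 : ∀ a : Gs (sh (nuF p) X), a ≠ 0 →
      ∃ y : EE (sh (nuF p) X) 3, t (hmE (left (((symB p p).sh h).cmp s) a) 3 y) ≠ 0)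
    (N1 : ∀ T : Tor (sh (nuF p) X), IsLoc T →
      (∀ x : X, ∃ V : X.Opens, x ∈ V ∧ Nonempty (T.pt ((EtZar.zarToEt X).obj V))) →
      (∀ b : EE (sh (nuF p) X) 2, t (dT T (((symB p p).sh h).cmp s) 2 b) = 0) →
      Nonempty (T.pt (EtCoh.top X)))
    (n i : ℕ) (hi : i ≤ 3) :
    Finite (EE (nu X p n) i) ∧ Nonempty (EE (nu X p n) i ≃+ EE (nu X p n) (3 - i)) := by
  refine formal hp (sys h) N3 (s1 h s) t hfin hv h03 h12 (fun n hn z hz => ?_) ?_ ?_ n i hi
  · have e0 : hm (ZZ X) (s1 h s) 3 z = hm (ZZ X) s 3 (hm (ZZ X) (r1 h TnF) 3 z) := hm_comp _ _ _ _ _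
    refine (congrArg t e0).trans (INJ n hn (hm (ZZ X) (r1 h TnF) 3 z) ?_)
    have e2 : hm (ZZ X) (r1 h TnF ≫ (mulN TnF p p (p ^ n) (p ^ (n - 1)) (dvd_pow_pred p hn)).sh h) 3 z = 0 := by
      rw [v1 h hn]
      exact hz
    exact (hm_comp _ _ _ _ _).symm.trans e2
  · intro a ha
    obtain ⟨y, hy⟩ := N0 (gs h a) (gs_ne_zero h a ha)
    refine ⟨hm (ZZ X) (en0 h).inv 3 y, ?_⟩
    rw [mulL_gs, ← hm_comp, Iso.inv_hom_id_assoc]
    exact hy
  · intro n hn a hz hb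
    obtain ⟨g⟩ := N1 (mapIso (torL n a) (en0 h)) (isLoc_mapIso _ _ (isLoc_torL n a)) (fun x => by
      obtain ⟨V, hxV, hV⟩ := hz x
      obtain ⟨g, hg⟩ := hV ((EtZar.zarToEt X).obj V) (by
        change Set.range V.ι ⊆ _
        rw [Scheme.Opens.range_ι])
      exact ⟨V, hxV, ⟨⟨g, hg⟩⟩⟩) (fun b => (congrArg t (dl_torL h s n a b)).trans (hb _))
    exact ⟨g.1, g.2⟩

end

section lev1

variable (k : Type u) [Field k] [Finite k] (p : ℕ) [hp : Fact p.Prime] [CharP k p] (X : Scheme.{u})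
  (f : X ⟶ Spec (.of k)) [AlgebraicGeometry.IsIntegral X] [IsProper f] [SmoothOfRelativeDimension 2 f]
  (h : (p : Γ(X, ⊤)) = 0)

/-- Level one. -/
def nuOne : nu X p 1 ≅ cokernel (EtCoh.powMap X p) :=
  cokernelIsoOfEq (by rw [pow_one]; rfl)

variable {p X} in
/-- `EE` of level one. -/
def eOne (i : ℕ) : EE (nu X p 1) i ≃+ EtCoh.H X (cokernel (EtCoh.powMap X p)) i :=
  (K769.HCmp.toE (nu X p 1) i).symm.trans (K611.Exact.Hcongr (nuOne p X) i)

include k f h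

theorem finE (i : ℕ) : Finite (EE (nu X p 1) i) :=
  (eOne i).toEquiv.finite_iff.2 (K593.Lev1.fin k p X f h i)

theorem vanE : Subsingleton (EE (nu X p 1) 4) :=
  have := K593.Lev1.van k p X f h
  (eOne (X := X) (p := p) 4).toEquiv.subsingleton

omit h in
theorem cardE (i : ℕ) (hi : i ≤ 3) : Nat.card (EE (nu X p 1) i) = Nat.card (EE (nu X p 1) (3 - i)) := by
  obtain ⟨e⟩ := Groth.Agent.S18106.result k p X f i hi
  exact Nat.card_congr (((eOne i).trans e).trans (eOne (3 - i)).symm).toEquiv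

theorem n0E (t : EE (K720.Lev1.Nsh h) 3 →+ K956.Count.T) (ht : Function.Injective t)
    (a : Gs (sh (nuF p) X)) (ha : a ≠ 0) :
    ∃ y : EE (sh (nuF p) X) 3, t (hmE (left (((symB p p).sh h).cmp (K720.Lev1.s h)) a) 3 y) ≠ 0 := by
  by_contra hc
  push Not at hc
  apply ha
  refine K593.Lev1.n0 k p X f h a fun y => ?_
  apply (K769.HCmp.toE _ 3).injective
  rw [map_zero, K769.HCmp.toE_map]
  apply ht
  rw [map_zero]
  exact hc (K769.HCmp.toE _ 3 y)

theorem n1E (t : EE (K720.Lev1.Nsh h) 3 →+ K956.Count.T) (ht : Function.Injective t)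
    (T : Tor (sh (nuF p) X)) (hP : IsLoc T)
    (hT : ∀ x : X, ∃ V : X.Opens, x ∈ V ∧ Nonempty (T.pt ((EtZar.zarToEt X).obj V)))
    (hb : ∀ b : EE (sh (nuF p) X) 2, t (dT T (((symB p p).sh h).cmp (K720.Lev1.s h)) 2 b) = 0) :
    Nonempty (T.pt (EtCoh.top X)) := by
  refine K720.N1.n1_final k p X f h T hP hT ?_
  rw [injective_iff_map_eq_zero]
  intro x hx
  have h1 : hmE (K720.Tw.ι T (K720.Lev1.bN h)) 3 (K769.HCmp.toE _ 3 x) = 0 := by
    rw [← K769.HCmp.toE_map, hx, map_zero]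
  have h2 : K769.HCmp.toE _ 3 x ∈ (dl (ZZ X) (K720.Tw.shortExact T (K720.Lev1.bN h)) 2).range := by
    rw [← ker_f]
    exact h1
  obtain ⟨b, hb'⟩ := h2
  apply (K769.HCmp.toE _ 3).injective
  rw [map_zero, ← hb']
  apply ht
  rw [map_zero]
  exact hb b

end lev1

/-- The duality theorem on surfaces, for `EE`. -/
theorem final (k : Type u) [Field k] [Finite k] (p : ℕ) [hp : Fact p.Prime] [CharP k p] (X : Scheme.{u})
    (f : X ⟶ Spec (.of k)) [AlgebraicGeometry.IsIntegral X] (hproj : Neron.IsProjectiveOver k (Over.mk f))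
    [SmoothOfRelativeDimension 2 f] (n i : ℕ) (hi : i ≤ 3) :
    Finite (EE (nu X p n) i) ∧ Nonempty (EE (nu X p n) i ≃+ EE (nu X p n) (3 - i)) := by
  have hprop : IsProper f := K154.FlatMu.isProper_of_projective hproj
  have h := K611.NodeT.cast_p_eq_zero k p X f
  have hX2 := K611.Charts2.hasChartsN p k X f 2
  have hX := K611.VanEt.charts_good hX2
  obtain ⟨t, ht⟩ := K593.Cyc.hcyc k p X f h
  let t' : EE (K720.Lev1.Nsh h) 3 →+ K956.Count.T := t.comp (K769.HCmp.toE (K720.Lev1.Nsh h) 3).symm.toAddMonoidHom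
  have ht' : Function.Injective t' := ht.comp (K769.HCmp.toE (K720.Lev1.Nsh h) 3).symm.injective
  have := mono_Gm h hX
  refine mainE h (K720.Lev1.s h) hp.out t' (fun i _ => finE k p X f h i) (vanE k p X f h)
    (cardE k p X f 0 (by norm_num)) (cardE k p X f 1 (by norm_num)) (fun n hn z hz => ?_)
    (n0E k p X f h t' ht') (n1E k p X f h t' ht') n i hi
  have h1 := K593.T3.INJ k f hproj h hX2 ⟨t, ht⟩ hn ((K769.HCmp.toE _ 3).symm z) (by
    apply (K769.HCmp.toE _ 3).injective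
    rw [map_zero, K769.HCmp.toE_map, AddEquiv.apply_symm_apply]
    exact hz)
  have h2 := congrArg (K769.HCmp.toE _ 3) h1
  rw [map_zero, K769.HCmp.toE_map, AddEquiv.apply_symm_apply] at h2
  rw [h2, map_zero]

end K593.Fin07
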