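import Groth.Agent.EtCoh.K593.Pack
import Groth.Agent.EtCoh.K56.Sec
import Groth.Agent.Sga4A.IntegralSection

/-!
# Morphisms out of `(push r).obj (sh A X)` for `r` integral

* `exists_hom`: a morphism `Q ⟶ H` from maps `G(V) → H(V)` on a basis, `G → Q` locally surjective;
* `SurjPush r A`: sections of `(push r).obj (sh A X)` are locally in the image of `un A`;
* `surjPush_om2` (affine morphisms), `surjPush_tn` (symbols, `r` integral).
-/

set_option autoImplicit false

universe u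

open CategoryTheory CategoryTheory.Limits AlgebraicGeometry Opposite
open K611.Sh K720.Sym K720.Nu

noncomputable section

namespace K593.T3

open Groth.Agent.Etbase

/-! ### Extension along locally surjective maps -/

section ext

variable {Y : Scheme.{u}} {Bs : Y.Etale → Prop} (hb : K56.T4.Base.IsBasis Bs) (G : Y.Etaleᵒᵖ ⥤ AddCommGrpCat.{u + 1})
  (Q H : EtCoh.Ab Y) (π : G ⟶ Q.obj)

/-- Local surjectivity. -/
def LocSur : Prop := ∀ (U : Y.Etale) (s : EtCoh.sect Q U) (x : U.left), ∃ (V : Y.Etale) (g : V ⟶ U) (v : V.left),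
  g.left v = x ∧ ∃ a : G.obj (op V), π.app (op V) a = Q.obj.map g.op s

variable {G Q H π}

theorem nat_app {G H : Y.Etaleᵒᵖ ⥤ AddCommGrpCat.{u + 1}} (π : G ⟶ H) {U V : Y.Etale} (g : V ⟶ U) (a : G.obj (op U)) :
    π.app (op V) (G.map g.op a) = H.map g.op (π.app (op U) a) :=
  ConcreteCategory.congr_hom (π.naturality g.op) a

theorem map_comp_app (G : Y.Etaleᵒᵖ ⥤ AddCommGrpCat.{u + 1}) {U V W : Y.Etale} (g : V ⟶ U) (k : W ⟶ V)
    (a : G.obj (op U)) : G.map k.op (G.map g.op a) = G.map (k ≫ g).op a := by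
  rw [op_comp, G.map_comp]
  rfl

theorem exists_hom_all (hs : LocSur G Q π) (Φ : G ⟶ H.obj)
    (hk : ∀ (V : Y.Etale) (a : G.obj (op V)), π.app (op V) a = 0 → Φ.app (op V) a = 0) :
    ∃ Ψ : Q ⟶ H, π ≫ Ψ.hom = Φ := by
  have hk' : ∀ (V : Y.Etale) (a b : G.obj (op V)), π.app (op V) a = π.app (op V) b → Φ.app (op V) a = Φ.app (op V) b := by
    intro V a b hab
    have := hk V (a - b) (by rw [map_sub, hab, sub_self])
    rwa [map_sub, sub_eq_zero] at this
  have key : ∀ (U : Y.Etale) (s : EtCoh.sect Q U), ∃ t : EtCoh.sect H U, ∀ (V : Y.Etale) (g : V ⟶ U) (a : G.obj (op V)),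
      π.app (op V) a = Q.obj.map g.op s → H.obj.map g.op t = Φ.app (op V) a := by
    intro U s
    obtain ⟨t, ht⟩ := K611.Pair.et_glue H U
      (fun V g t => ∃ a : G.obj (op V), π.app (op V) a = Q.obj.map g.op s ∧ Φ.app (op V) a = t)
      (by
        intro x
        obtain ⟨V, g, v, hv, a, ha⟩ := hs U s x
        exact ⟨V, g, v, hv, _, a, ha, rfl⟩)
      (by
        rintro V g t t' ⟨a, ha, rfl⟩ ⟨b, hb, rfl⟩
        exact hk' V a b (ha.trans hb.symm))
      (by
        rintro V W g k t ⟨a, ha, rfl⟩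
        exact ⟨G.map k.op a, by rw [nat_app, ha, map_comp_app], nat_app _ _ _⟩)
    exact ⟨t, fun V g a ha => ht V g _ ⟨a, ha, rfl⟩⟩
  choose val hval using key
  have huniq : ∀ (U : Y.Etale) (s : EtCoh.sect Q U) (t t' : EtCoh.sect H U),
      (∀ (V : Y.Etale) (g : V ⟶ U) (a : G.obj (op V)), π.app (op V) a = Q.obj.map g.op s → H.obj.map g.op t = Φ.app (op V) a) →
      (∀ (V : Y.Etale) (g : V ⟶ U) (a : G.obj (op V)), π.app (op V) a = Q.obj.map g.op s → H.obj.map g.op t' = Φ.app (op V) a) →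
      t = t' := by
    intro U s t t' h h'
    refine EtSite.sect_ext H U t t' fun x => ?_
    obtain ⟨V, g, v, hv, a, ha⟩ := hs U s x
    exact ⟨V, g, v, hv, (h V g a ha).trans (h' V g a ha).symm⟩
  have hadd : ∀ (U : Y.Etale) (s s' : EtCoh.sect Q U), val U (s + s') = val U s + val U s' := by
    intro U s s'
    refine EtSite.sect_ext H U _ _ fun x => ?_
    obtain ⟨V, g, v, hv, a, ha⟩ := hs U s x
    obtain ⟨V', g', v', hv', a', ha'⟩ := hs V (Q.obj.map g.op s') v
    refine ⟨V', g' ≫ g, v', ?_, ?_⟩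
    · change (g'.left ≫ g.left) v' = x
      rw [Scheme.Hom.comp_apply, hv', hv]
    · have e1 : π.app (op V') (G.map g'.op a) = Q.obj.map (g' ≫ g).op s := by rw [nat_app, ha, map_comp_app]
      have e2 : π.app (op V') a' = Q.obj.map (g' ≫ g).op s' := by rw [ha', map_comp_app]
      rw [map_add, hval U s V' (g' ≫ g) _ e1, hval U s' V' (g' ≫ g) _ e2, ← map_add]
      exact hval U (s + s') V' (g' ≫ g) _ (by rw [map_add, map_add, e1, e2])
  have hzero : ∀ U : Y.Etale, val U 0 = 0 := by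
    intro U
    have := hadd U 0 0
    rw [add_zero] at this
    exact left_eq_add.1 this
  let Ψ : Q.obj ⟶ H.obj :=
    { app := fun U => AddCommGrpCat.ofHom ⟨⟨val U.unop, hzero U.unop⟩, hadd U.unop⟩
      naturality := by
        intro U U' g
        ext s
        refine huniq U'.unop (Q.obj.map g s) _ _ (fun V k a ha => hval _ _ V k a ha) fun V k a ha => ?_
        have e1 : H.obj.map k.op (H.obj.map g.unop.op (val U.unop s)) = H.obj.map (k ≫ g.unop).op (val U.unop s) :=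
          map_comp_app H.obj g.unop k _
        refine e1.trans (hval U.unop s V (k ≫ g.unop) a (ha.trans ?_))
        exact map_comp_app Q.obj g.unop k s }
  refine ⟨⟨Ψ⟩, ?_⟩
  ext U a
  have := hval U.unop (π.app U a) U.unop (𝟙 _) a (by rw [op_id, Q.obj.map_id]; rfl)
  rw [op_id, H.obj.map_id] at this
  exact this

include hb in
/-- A morphism `Q ⟶ H` from maps on a basis. -/
theorem exists_hom (hs : LocSur G Q π) (φ : ∀ V : Y.Etale, Bs V → (G.obj (op V) →+ EtCoh.sect H V))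
    (nat : ∀ (V W : Y.Etale) (hV : Bs V) (hW : Bs W) (g : W ⟶ V) (s : G.obj (op V)),
      φ W hW (G.map g.op s) = H.obj.map g.op (φ V hV s))
    (hk : ∀ (V : Y.Etale) (hV : Bs V) (a : G.obj (op V)), π.app (op V) a = 0 → φ V hV a = 0) :
    ∃ Ψ : Q ⟶ H, ∀ (V : Y.Etale) (hV : Bs V) (a : G.obj (op V)), Ψ.hom.app (op V) (π.app (op V) a) = φ V hV a := by
  obtain ⟨Φ, hΦ⟩ := K56.T4.Base.exists_hom hb G H φ nat
  obtain ⟨Ψ, hΨ⟩ := exists_hom_all hs Φ (by
    intro V a ha
    refine K56.T4.Base.sect_ext hb H V _ _ fun W hW g => ?_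
    rw [map_zero]
    have e1 : Φ.app (op W) (G.map g.op a) = H.obj.map g.op (Φ.app (op V) a) := nat_app Φ g a
    rw [← e1, hΦ W hW]
    refine hk W hW _ ?_
    rw [nat_app, ha, map_zero])
  refine ⟨Ψ, fun V hV a => ?_⟩
  have := congrArg (fun η : G ⟶ H.obj => η.app (op V) a) hΨ
  exact this.trans (hΦ V hV a)

/-- Uniqueness. -/
theorem hom_ext_sur (hs : LocSur G Q π) {Ψ Ψ' : Q ⟶ H}
    (h : ∀ (V : Y.Etale) (a : G.obj (op V)), Ψ.hom.app (op V) (π.app (op V) a) = Ψ'.hom.app (op V) (π.app (op V) a)) :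
    Ψ = Ψ' := by
  apply Sheaf.hom_ext
  ext U s
  refine EtSite.sect_ext H U.unop _ _ fun x => ?_
  obtain ⟨V, g, v, hv, a, ha⟩ := hs U.unop s x
  refine ⟨V, g, v, hv, ?_⟩
  have e1 : Ψ.hom.app (op V) (Q.obj.map g.op s) = H.obj.map g.op (Ψ.hom.app U s) := nat_app Ψ.hom g s
  have e2 : Ψ'.hom.app (op V) (Q.obj.map g.op s) = H.obj.map g.op (Ψ'.hom.app U s) := nat_app Ψ'.hom g s
  rw [← e1, ← e2, ← ha, h]

include hb in
theorem hom_ext_bas (hs : LocSur G Q π) {Ψ Ψ' : Q ⟶ H}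
    (h : ∀ (V : Y.Etale) (_ : Bs V) (a : G.obj (op V)), Ψ.hom.app (op V) (π.app (op V) a) = Ψ'.hom.app (op V) (π.app (op V) a)) :
    Ψ = Ψ' := by
  refine hom_ext_sur hs fun V a => ?_
  refine K56.T4.Base.sect_ext hb H V _ _ fun W hW g => ?_
  have e1 : Ψ.hom.app (op W) (Q.obj.map g.op (π.app (op V) a)) = H.obj.map g.op (Ψ.hom.app (op V) (π.app (op V) a)) :=
    nat_app Ψ.hom g _
  have e2 : Ψ'.hom.app (op W) (Q.obj.map g.op (π.app (op V) a)) = H.obj.map g.op (Ψ'.hom.app (op V) (π.app (op V) a)) :=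
    nat_app Ψ'.hom g _
  rw [← e1, ← e2, ← nat_app π g a]
  exact h W hW _

end ext


/-! ### Direct images of `sh A` -/

section push

variable {X P : Scheme.{u}} (r : X ⟶ P) (A : CommRingCat.{u} ⥤ AddCommGrpCat.{u})

/-- The presheaf `V ↦ A (Γ(X ×_P V))`. -/
abbrev ppre : P.Etaleᵒᵖ ⥤ AddCommGrpCat.{u + 1} := (EtCoh.bc r).op ⋙ pre A X

/-- Its map to the direct image of `sh A`. -/
def pun : ppre r A ⟶ ((EtCoh.push r).obj (sh A X)).obj :=
  Functor.whiskerLeft (EtCoh.bc r).op (toSheafify X.smallEtaleTopology (pre A X))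

theorem pun_app (V : P.Etale) (a : A.obj Γ(((EtCoh.bc r).obj V).left, ⊤)) :
    (pun r A).app (op V) (upp A ((EtCoh.bc r).obj V) a) = un A ((EtCoh.bc r).obj V) a := rfl

/-- Sections of the direct image are locally in the image of `un`. -/
def SurjPush : Prop := ∀ (U : P.Etale) (s : EtCoh.sect (sh A X) ((EtCoh.bc r).obj U)) (x : U.left),
  ∃ (V : P.Etale) (g : V ⟶ U) (v : V.left), g.left v = x ∧ ∃ a : A.obj Γ(((EtCoh.bc r).obj V).left, ⊤),
    un A ((EtCoh.bc r).obj V) a = (sh A X).obj.map ((EtCoh.bc r).map g).op s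

variable {r A}

theorem SurjPush.locSur (h : SurjPush r A) : LocSur (ppre r A) ((EtCoh.push r).obj (sh A X)) (pun r A) := by
  intro U s x
  obtain ⟨V, g, v, hv, a, ha⟩ := h U s x
  exact ⟨V, g, v, hv, upp A _ a, ha⟩

/-- A morphism out of the direct image of `sh A` from maps on a basis. -/
theorem exists_push_hom {Bs : P.Etale → Prop} (hb : K56.T4.Base.IsBasis Bs) (h : SurjPush r A) (H : EtCoh.Ab P)
    (φ : ∀ V : P.Etale, Bs V → (A.obj Γ(((EtCoh.bc r).obj V).left, ⊤) →+ EtCoh.sect H V))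
    (nat : ∀ (V W : P.Etale) (hV : Bs V) (hW : Bs W) (g : W ⟶ V) (s : A.obj Γ(((EtCoh.bc r).obj V).left, ⊤)),
      φ W hW (res A ((EtCoh.bc r).map g) s) = H.obj.map g.op (φ V hV s))
    (hk : ∀ (V : P.Etale) (hV : Bs V) (a : A.obj Γ(((EtCoh.bc r).obj V).left, ⊤)),
      un A ((EtCoh.bc r).obj V) a = 0 → φ V hV a = 0) :
    ∃ Ψ : (EtCoh.push r).obj (sh A X) ⟶ H, ∀ (V : P.Etale) (hV : Bs V) (a : A.obj Γ(((EtCoh.bc r).obj V).left, ⊤)),
      Ψ.hom.app (op V) (un A ((EtCoh.bc r).obj V) a) = φ V hV a := by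
  let ul : ∀ V : P.Etale, (ppre r A).obj (op V) →+ A.obj Γ(((EtCoh.bc r).obj V).left, ⊤) := fun V =>
    { toFun := fun a => dwn A _ a
      map_zero' := rfl
      map_add' := fun _ _ => rfl }
  obtain ⟨Ψ, hΨ⟩ := exists_hom hb h.locSur (H := H) (fun V hV => (φ V hV).comp (ul V))
    (fun V W hV hW g s => nat V W hV hW g (dwn A _ s)) (fun V hV a ha => hk V hV (dwn A _ a) ha)
  exact ⟨Ψ, fun V hV a => hΨ V hV (upp A _ a)⟩

theorem push_hom_ext {Bs : P.Etale → Prop} (hb : K56.T4.Base.IsBasis Bs) (h : SurjPush r A) {H : EtCoh.Ab P}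
    {Ψ Ψ' : (EtCoh.push r).obj (sh A X) ⟶ H}
    (e : ∀ (V : P.Etale) (_ : Bs V) (a : A.obj Γ(((EtCoh.bc r).obj V).left, ⊤)),
      Ψ.hom.app (op V) (un A ((EtCoh.bc r).obj V) a) = Ψ'.hom.app (op V) (un A ((EtCoh.bc r).obj V) a)) : Ψ = Ψ' :=
  hom_ext_bas hb h.locSur fun V hV a => e V hV (dwn A _ a)

end push

/-! ### Affine morphisms and quasi-coherent sheaves -/

section aff

variable {X P : Scheme.{u}} (r : X ⟶ P)

theorem exists_affine_nhd (U : P.Etale) (x : U.left) : ∃ (V : P.Etale) (g : V ⟶ U) (v : V.left), g.left v = x ∧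
    IsAffine V.left := by
  obtain ⟨O, hO, hxO, -⟩ := exists_isAffineOpen_mem_and_subset (X := U.left) (U := ⊤) (x := x) trivial
  have : Etale (O.ι ≫ U.hom) := MorphismProperty.comp_mem _ _ _ (inferInstance : Etale O.ι) U.prop
  let V : P.Etale := Scheme.Etale.mk (O.ι ≫ U.hom)
  exact ⟨V, MorphismProperty.Over.homMk O.ι rfl, ⟨x, hxO⟩, rfl, hO⟩

theorem isAffine_bc [IsAffineHom r] (V : P.Etale) (hV : IsAffine V.left) : IsAffine ((EtCoh.bc r).obj V).left := by
  have h1 : IsAffineHom (pullback.fst V.hom r) := MorphismProperty.pullback_fst (P := @IsAffineHom) V.hom r ‹_›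
  have h2 : IsAffine (((𝟭 Scheme.{u}).obj V.left)) := hV
  exact @isAffine_of_isAffineHom _ _ (pullback.fst V.hom r) h1 h2

theorem surjPush_of_surj [IsAffineHom r] (A : CommRingCat.{u} ⥤ AddCommGrpCat.{u})
    (hA : ∀ U : X.Etale, IsAffine U.left → Function.Surjective (un A U)) : SurjPush r A := by
  intro U s x
  obtain ⟨V, g, v, hv, hV⟩ := exists_affine_nhd U x
  exact ⟨V, g, v, hv, hA _ (isAffine_bc r V hV) _⟩

theorem surjPush_om2 [IsAffineHom r] : SurjPush r K611.Seq2.Om2F :=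
  surjPush_of_surj r _ fun U hU => (K56.T4.Sec.un_bijective U hU).2

end aff

/-! ### Finite covers -/

section cov

variable {X : Scheme.{u}}

theorem exists_fin_cover (U : X.Etale) [CompactSpace U.left] (D : ∀ V : X.Etale, (V ⟶ U) → Prop)
    (h : ∀ x : U.left, ∃ (V : X.Etale) (g : V ⟶ U) (v : V.left), g.left v = x ∧ D V g) :
    ∃ (ι : Type u) (_ : Finite ι) (V : ι → X.Etale) (g : ∀ i, V i ⟶ U), (∀ i, D (V i) (g i)) ∧
      ∀ x : U.left, ∃ (i : ι) (v : (V i).left), (g i).left v = x := by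
  choose V g v hv hD using h
  have ho : ∀ x, IsOpen (Set.range (g x).left) := fun x => (g x).left.isOpenMap.isOpen_range
  obtain ⟨t, ht⟩ := isCompact_univ.elim_finite_subcover (fun x => Set.range (g x).left) ho (by
    intro x _
    exact Set.mem_iUnion.2 ⟨x, v x, hv x⟩)
  refine ⟨t, inferInstance, fun i => V i.1, fun i => g i.1, fun i => hD i.1, fun x => ?_⟩
  obtain ⟨y, hy⟩ := Set.mem_iUnion.1 (ht (Set.mem_univ x))
  obtain ⟨hyt, w, hw⟩ := Set.mem_iUnion.1 hy
  exact ⟨⟨y, hyt⟩, w, hw⟩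

end cov

/-! ### Symbols on finite disjoint unions -/

section tn

open PushExact

variable {X : Scheme.{u}} {ι : Type u} (U : ι → X.Etale)

/-- The restriction of units. -/
abbrev ru {U V : X.Etale} (g : V ⟶ U) : (Γ(U.left, ⊤))ˣ →* (Γ(V.left, ⊤))ˣ := Units.map g.left.appTop.hom.toMonoidHom

theorem unit_ext {v w : (Γ((sig U).left, ⊤))ˣ} (h : ∀ j, ru (sigι U j) v = ru (sigι U j) w) : v = w := by
  obtain ⟨t, -, hu⟩ := existsUnique_sig U (EtCoh.Gm X)
    (fun j => (ULift.up (Additive.ofMul (ru (sigι U j) w)) : ULift.{u + 1} (Additive (Γ((U j).left, ⊤))ˣ)))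
  have h1 := hu (ULift.up (Additive.ofMul v) : ULift.{u + 1} (Additive (Γ((sig U).left, ⊤))ˣ)) (fun j =>
    congrArg (fun a => (ULift.up (Additive.ofMul a) : ULift.{u + 1} (Additive (Γ((U j).left, ⊤))ˣ))) (h j))
  have h2 := hu (ULift.up (Additive.ofMul w) : ULift.{u + 1} (Additive (Γ((sig U).left, ⊤))ˣ)) (fun j => rfl)
  exact congrArg (fun a => (ULift.down (show ULift.{u + 1} (Additive (Γ((sig U).left, ⊤))ˣ) from a)).toMul)
    (h1.trans h2.symm)

theorem exists_unit (v : ∀ j, (Γ((U j).left, ⊤))ˣ) : ∃ t : (Γ((sig U).left, ⊤))ˣ, ∀ j, ru (sigι U j) t = v j := by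
  obtain ⟨t, ht, -⟩ := existsUnique_sig U (EtCoh.Gm X)
    (fun j => (ULift.up (Additive.ofMul (v j)) : ULift.{u + 1} (Additive (Γ((U j).left, ⊤))ˣ)))
  refine ⟨(ULift.down (show ULift.{u + 1} (Additive (Γ((sig U).left, ⊤))ˣ) from t)).toMul, fun j => ?_⟩
  exact congrArg (fun a => (ULift.down (show ULift.{u + 1} (Additive (Γ((U j).left, ⊤))ˣ) from a)).toMul) (ht j)

open Classical in
/-- Extension of a unit by `1`. -/
def extU (i : ι) (v : (Γ((U i).left, ⊤))ˣ) : (Γ((sig U).left, ⊤))ˣ :=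
  (exists_unit U (Function.update (fun _ => 1) i v)).choose

open Classical in
theorem ru_extU (i j : ι) (v : (Γ((U i).left, ⊤))ˣ) :
    ru (sigι U j) (extU U i v) = Function.update (fun j => (1 : (Γ((U j).left, ⊤))ˣ)) i v j :=
  (exists_unit U (Function.update (fun _ => 1) i v)).choose_spec j

theorem ru_extU_same (i : ι) (v : (Γ((U i).left, ⊤))ˣ) : ru (sigι U i) (extU U i v) = v := by
  classical
  rw [ru_extU, Function.update_self]

theorem ru_extU_ne {i j : ι} (h : j ≠ i) (v : (Γ((U i).left, ⊤))ˣ) : ru (sigι U j) (extU U i v) = 1 := by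
  classical
  rw [ru_extU, Function.update_of_ne h]

theorem extU_mul (i : ι) (v w : (Γ((U i).left, ⊤))ˣ) : extU U i (v * w) = extU U i v * extU U i w := by
  refine unit_ext U fun j => ?_
  rw [map_mul]
  by_cases h : j = i
  · subst h
    rw [ru_extU_same, ru_extU_same, ru_extU_same]
  · rw [ru_extU_ne U h, ru_extU_ne U h, ru_extU_ne U h, mul_one]

/-- Extension of symbols. -/
def extT (i : ι) : Tn Γ((U i).left, ⊤) →+ Tn Γ((sig U).left, ⊤) :=
  mk2 (fun v w => sb (extU U i v) (extU U i w)) (fun v v' w => by rw [extU_mul, sb_mul_left])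
    (fun v w w' => by rw [extU_mul, sb_mul_right])

theorem tmap_extT_same (i : ι) (z : Tn Γ((U i).left, ⊤)) : tmap (sigι U i).left.appTop.hom (extT U i z) = z := by
  have := tn_hom_ext (a := (tmap (sigι U i).left.appTop.hom).comp (extT U i)) (b := AddMonoidHom.id _) (fun v w => by
    rw [AddMonoidHom.comp_apply, extT, mk2_sb, tmap_sb]
    change sb (ru (sigι U i) (extU U i v)) (ru (sigι U i) (extU U i w)) = sb v w
    rw [ru_extU_same, ru_extU_same])
  exact DFunLike.congr_fun this z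

theorem sb_one {B : Type u} [CommRing B] (w : Bˣ) : sb (1 : Bˣ) w = 0 := by
  have := sb_mul_left (1 : Bˣ) 1 w
  rw [mul_one] at this
  exact left_eq_add.1 this

theorem tmap_extT_ne {i j : ι} (h : j ≠ i) (z : Tn Γ((U i).left, ⊤)) :
    tmap (sigι U j).left.appTop.hom (extT U i z) = 0 := by
  have := tn_hom_ext (a := (tmap (sigι U j).left.appTop.hom).comp (extT U i)) (b := 0) (fun v w => by
    rw [AddMonoidHom.comp_apply, extT, mk2_sb, tmap_sb]
    change sb (ru (sigι U j) (extU U i v)) (ru (sigι U j) (extU U i w)) = 0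
    rw [ru_extU_ne U h, sb_one])
  exact DFunLike.congr_fun this z

/-- Symbols on the pieces of a finite disjoint union come from a symbol. -/
theorem exists_tn [Finite ι] (z : ∀ i, Tn Γ((U i).left, ⊤)) :
    ∃ t : Tn Γ((sig U).left, ⊤), ∀ i, tmap (sigι U i).left.appTop.hom t = z i := by
  classical
  have := Fintype.ofFinite ι
  refine ⟨∑ i, extT U i (z i), fun j => ?_⟩
  rw [map_sum, Finset.sum_eq_single j, tmap_extT_same]
  · intro i _ hij
    exact tmap_extT_ne U hij.symm _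
  · intro h
    exact absurd (Finset.mem_univ j) h

end tn

/-! ### Symbols are locally defined on the base -/

section surj

open PushExact

variable {X P : Scheme.{u}} (r : X ⟶ P) [IsIntegralHom r]

theorem surjPush_tn (m : ℕ) : SurjPush r (QnF m) := by
  intro U s x
  obtain ⟨U', g₀, x', hx', hU'⟩ := exists_affine_nhd U x
  have hc : IsAffine ((EtCoh.bc r).obj U').left := isAffine_bc r U' hU'
  have : CompactSpace ((EtCoh.bc r).obj U').left := inferInstance
  obtain ⟨ι, hι, W, k, hW, hcov⟩ := exists_fin_cover ((EtCoh.bc r).obj U')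
    (fun V g => ∃ a : (QnF m).obj Γ(V.left, ⊤), un (QnF m) V a = (sh (QnF m) X).obj.map (g ≫ (EtCoh.bc r).map g₀).op s)
    (by
      intro y
      obtain ⟨V, g, v, hv, a, ha⟩ := exists_un (QnF m) ((EtCoh.bc r).obj U')
        ((sh (QnF m) X).obj.map ((EtCoh.bc r).map g₀).op s) y
      exact ⟨V, g, v, hv, a, by rw [ha, map_comp_app]⟩)
  choose a ha using hW
  choose z hz using fun i => cm_surjective (A := TnF) (m := m) (a i)
  let p := sigDesc W k
  have hp : Surjective p.left := by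
    constructor
    intro y
    obtain ⟨i, w, hw⟩ := hcov y
    exact ⟨(sigι W i).left w, (congrArg (fun k : W i ⟶ _ => k.left w) (sigι_desc W k i)).trans hw⟩
  obtain ⟨V, g, v, hv, σ, hσ⟩ := (Groth.Agent.Sga4A.EtSplit.refines_of_isIntegralHom r) U' (sig W) p hp x'
  obtain ⟨t, ht⟩ := exists_tn W z
  have h1 : un (QnF m) (sig W) (cm (A := TnF) t) = (sh (QnF m) X).obj.map (p ≫ (EtCoh.bc r).map g₀).op s := by
    refine EtGlue.ext_of_cover (sh (QnF m) X) (sigι W) (sig_range W) (fun i => ?_)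
    rw [← un_res, map_comp_app, ← Category.assoc]
    have e1 : sigι W i ≫ p = k i := sigι_desc W k i
    rw [e1, ← ha i, ← hz i]
    congr 1
    exact congrArg (cm (A := TnF) (m := m)) (ht i)
  refine ⟨V, g ≫ g₀, v, ?_, res (QnF m) σ (cm (A := TnF) t), ?_⟩
  · change (g.left ≫ g₀.left) v = x
    rw [Scheme.Hom.comp_apply, hv, hx']
  · rw [un_res, h1, map_comp_app, ← Category.assoc, hσ, Functor.map_comp]

end surj

end K593.T3
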