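import Groth.Agent.EtCoh.K593.Inj
import Groth.Agent.EtCoh.K56.MainT4
import Groth.Agent.EtCoh.K56.Tor2
import Groth.Agent.EtCoh.K121.Tor1

/-!
# INJ from a trace package over the projective plane of level `n + 1`
-/

set_option autoImplicit false
set_option linter.unusedSectionVars false

universe u

open CategoryTheory CategoryTheory.Limits AlgebraicGeometry Opposite TopologicalSpace
open K611.Gam K611.Gam2 K611.Frame K611.Top K611.Sh K611.Seq K611.Seq2 K720.Sym K720.Tw K720.Nu K720.Lev1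
open K56.T4 K56.T4.Abs

noncomputable section

namespace K593.T3

attribute [local instance 3000] K554.Mv.hsE K554.Mv.hxE

/-- The package comes from a linear nonzero trace. -/
def IsGood {P X : Scheme.{u}} {r : X ⟶ P} {p N : ℕ} [Fact p.Prime] {h : (p : Γ(X, ⊤)) = 0}
    {S : sh Om2F P ⟶ sh Om2F P} (M : TrPack r p N h (sh Om2F P) S) : Prop :=
  ∀ V (hV : M.Bs V), ∃ TR₀ : Om2 (RB r V) →+ Om2 Γ(V.left, ⊤), (∀ η, M.TR V hV η = un Om2F V (TR₀ η)) ∧
        (∀ a η, TR₀ (sb' r V a • η) = a • TR₀ η) ∧ (Nontrivial (RB r V) → TR₀ ≠ 0)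

section gen

variable {P X : Scheme.{u}} (r : X ⟶ P) [IsIntegralHom r] [Surjective r] {W : Type u} [CommRing W] (D : P2 P W) {p N : ℕ}
  [hp : Fact p.Prime] {k : Type u} [Field k] {B : WB p N k W} (hB : B.HasTor) (h : (p : Γ(X, ⊤)) = 0)
  (M : TrPack r p N h (sh Om2F P) (D.S hB)) (hM : IsGood M)

include hM in
theorem hlin (a b : Γ(P, D.tor)) (hs : ∃ s, (tm M).hom.app (op (ob D.tor)) s = D.fm 0 D.tor (D.tor_le 0) b) :
    ∃ s', (tm M).hom.app (op (ob D.tor)) s' = D.fm 0 D.tor (D.tor_le 0) (a * b) := by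
  obtain ⟨T, h1, h2, h3, -⟩ := K121.Tor1.exists_T r h M hM (tm M) (tm_un M) (ob D.tor) D.aff_tor
  obtain ⟨s, hs⟩ := hs
  obtain ⟨η, rfl⟩ := h3 s
  have h4 : T η = P2.gv D.tor b • D.vl 0 D.tor (D.tor_le 0) := by
    apply (K56.T4.Sec.un_bijective (ob D.tor) D.aff_tor).1
    exact (h1 η).symm.trans hs
  let η' : Om2 (RB r (ob D.tor)) := sb' r (ob D.tor) (P2.gv D.tor a) • (show Om2 (RB r (ob D.tor)) from η)
  have h5 : T η' = P2.gv D.tor a • (P2.gv D.tor b • D.vl 0 D.tor (D.tor_le 0)) := by rw [h2, ← h4]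
  refine ⟨un Om2F ((EtCoh.bc r).obj (ob D.tor)) η', ?_⟩
  rw [h1, h5, smul_smul, ← map_mul]
  rfl

include hM in
theorem exists_x (hn : 1 ≤ N) (hne : (D.tor : Set P).Nonempty) :
    ∃ x : EtCoh.H P ((EtCoh.push r).obj (sh Om2F X)) 2, Sheaf.H.map (tK M) 2 x ≠ 0 := by
  obtain ⟨s₀, hs₀⟩ := K121.Tor1.exists_ne_zero r D B hB h M hM (tm M) (tm_un M) D.tor D.aff_tor hne
  exact D.exists_H2_ne_zero hB hn (tm M) (tm_smul' M) s₀ hs₀ (hlin r D hB h M hM)

end gen

theorem tor_nonempty {P : Scheme.{u}} {W : Type u} [CommRing W] [Nontrivial W] (D : P2 P W) : (D.tor : Set P).Nonempty := by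
  by_contra hne
  rw [Set.not_nonempty_iff_eq_empty] at hne
  have h1 : D.tor = ⊥ := by
    ext x
    change x ∈ (D.tor : Set P) ↔ _
    rw [hne]
    simp
  have h2 : Subsingleton Γ(P, D.tor) := by
    rw [h1]
    infer_instance
  have h3 := D.lau_bijective.1 (a₁ := Finsupp.single 0 1) (a₂ := 0) (Subsingleton.elim _ _)
  exact one_ne_zero ((Finsupp.single_eq_zero).1 h3)

theorem nontrivial_Zw (p N : ℕ) [hp : Fact p.Prime] (hN : 1 ≤ N) : Nontrivial (Zw.{u} p N) := by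
  have : Fact (1 < p ^ N) := ⟨Nat.one_lt_pow (by omega) hp.out.one_lt⟩
  infer_instance

/-- **INJ** for a morphism to the projective plane of level `n + 1` with a good trace package. -/
theorem inj_pack {p n : ℕ} [Fact p.Prime] (hn : 1 ≤ n) {X : Scheme.{u}} (h : (p : Γ(X, ⊤)) = 0)
    (r : X ⟶ Pz.{u} p (n + 1)) [IsIntegralHom r] [Surjective r]
    (M : TrPack r p (n + 1) h (sh Om2F (Pz.{u} p (n + 1))) ((Dz.{u} p (n + 1)).S (hasTor p (n + 1) (Nat.le_add_left 1 n))))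
    (hM : IsGood M) (hX : HasCharts X (GoodN p 2))
    (hcyc : ∃ t : EtCoh.H X (Nsh h) 3 →+ K956.Count.T, Function.Injective t)
    (z : EtCoh.H X (sh (QnF p) X) 3) (hz : Sheaf.H.map ((vN n hn).sh h) 3 z = 0) :
    Sheaf.H.map (s h) 3 z = 0 := by
  have hN : 1 ≤ n + 1 := Nat.le_add_left 1 n
  have := nontrivial_Zw.{u} p (n + 1) hN
  exact inj M (P2.pn_smul (Dz.{u} p (n + 1)) (hasTor p (n + 1) hN)) n rfl hn hX
    (P2.locSurj (D := Dz.{u} p (n + 1)) (hasTor p (n + 1) hN) hN)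
    (exists_x r (Dz.{u} p (n + 1)) (hasTor p (n + 1) hN) h M hM hN (tor_nonempty _))
    ((Dz.{u} p (n + 1)).H_map_SK (hasTor p (n + 1) hN) hN (Zw.int_surj p (n + 1))) hcyc
    (injective_H3_Pz p (n + 1) hn (Nat.le_succ n)) z hz

end K593.T3
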