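import Groth.Agent.EtCoh.K593.Coh

/-!
# The statement INJ from a trace package

`inj`: if `z ∈ H³(X, Q_1)` dies in `H³(X, Q_n)`, then its image in `H³(X, N)` is zero.
-/

set_option autoImplicit false
set_option linter.unusedSectionVars false

universe u

open CategoryTheory CategoryTheory.Limits AlgebraicGeometry Opposite
open K611.Gam K611.Gam2 K611.Frame K611.Top K611.Sh K611.Seq K611.Seq2 K720.Sym K720.Tw K720.Nu K720.Lev1
open K56.T4.Abs

noncomputable section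

namespace K593.T3

/-- Elements of order `p` in `ℚ/ℤ` are multiples of `1/p`. -/
theorem exists_mul {p : ℕ} (hp : 0 < p) (u : AddCircle (1 : ℚ)) (hu : p • u = 0) :
    ∃ k : ℤ, u = k • (((1 / p : ℚ) : ℚ) : AddCircle (1 : ℚ)) := by
  induction u using QuotientAddGroup.induction_on with
  | H q =>
    have h1 : ((p • q : ℚ) : AddCircle (1 : ℚ)) = 0 := hu
    rw [AddCircle.coe_eq_zero_iff] at h1
    obtain ⟨k, hk⟩ := h1
    refine ⟨k, ?_⟩
    have hp0 : (p : ℚ) ≠ 0 := by exact_mod_cast hp.ne'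
    have h2 : q = k • (1 / p : ℚ) := by
      rw [zsmul_eq_mul]
      rw [zsmul_eq_mul, mul_one, nsmul_eq_mul] at hk
      rw [hk]
      field_simp
    conv_lhs => rw [h2]
    rfl

/-- A nonzero map out of a `p`-torsion subgroup of `ℚ/ℤ` is injective. -/
theorem injective_of_ne {G G' : Type*} [AddCommGroup G] [AddCommGroup G'] {p : ℕ} (hp : p.Prime)
    (hG : ∀ x : G, p • x = 0) (t : G →+ K956.Count.T) (ht : Function.Injective t) (g : G →+ G')
    (hg : ∃ x, g x ≠ 0) : Function.Injective g := by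
  obtain ⟨x, hx⟩ := hg
  rw [injective_iff_map_eq_zero]
  intro b hb
  by_contra hb0
  have htb : t b ≠ 0 := fun h => hb0 (ht (by rw [h, map_zero]))
  obtain ⟨k, hk⟩ := exists_mul hp.pos (t b) (by rw [← map_nsmul, hG, map_zero])
  obtain ⟨l, hl⟩ := exists_mul hp.pos (t x) (by rw [← map_nsmul, hG, map_zero])
  set e : AddCircle (1 : ℚ) := (((1 / p : ℚ) : ℚ) : AddCircle (1 : ℚ)) with he
  have hp0 : (p : ℚ) ≠ 0 := by exact_mod_cast hp.pos.ne'
  have hpe : (p : ℤ) • e = 0 := by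
    have h1 : (p : ℤ) • e = (((p : ℤ) • (1 / p : ℚ) : ℚ) : AddCircle (1 : ℚ)) := rfl
    rw [h1, AddCircle.coe_eq_zero_iff]
    exact ⟨1, by rw [zsmul_eq_mul, zsmul_eq_mul]; push_cast; field_simp⟩
  have hkp : ¬ (p : ℤ) ∣ k := by
    rintro ⟨c, rfl⟩
    apply htb
    rw [hk, mul_comm, mul_smul, hpe, smul_zero]
  have hcop : IsCoprime k (p : ℤ) := by
    rw [isCoprime_comm]
    exact ((Nat.prime_iff_prime_int.1 hp).coprime_iff_not_dvd).2 hkp
  obtain ⟨a, c, hac⟩ := hcop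
  have h1 : e = a • t b := by
    calc e = (a * k + c * (p : ℤ)) • e := by rw [hac, one_smul]
      _ = a • (k • e) + c • ((p : ℤ) • e) := by rw [add_smul, mul_smul, mul_smul]
      _ = a • t b := by rw [hpe, smul_zero, add_zero, ← hk]
  have h2 : x = (l * a) • b := ht (by rw [hl, h1, map_zsmul, mul_smul])
  exact hx (by rw [h2, map_zsmul, hb, smul_zero])

attribute [local instance 3000] K554.Mv.hsE K554.Mv.hxE

variable {P X : Scheme.{u}} {r : X ⟶ P} [IsIntegralHom r] {p N : ℕ} [hp : Fact p.Prime] {h : (p : Γ(X, ⊤)) = 0}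
  {F : EtCoh.Ab P} {S : F ⟶ F} (M : TrPack r p N h F S)

include h in
theorem smul_om2 : p • 𝟙 (sh Om2F X) = 0 := by
  refine K611.Sh.hom_ext _ _ _ fun U a => ?_
  rw [K56.T4.Sec.nsmul_app, ← map_nsmul]
  have h0 := Groth.Agent.CurvesA.ArtinSchreier.cast_eq_zero_of_etale X p h U
  have e1 : p • a = 0 := nsmul_om2 p h0 a
  rw [e1, map_zero]
  rfl

theorem smul_N : p • 𝟙 (Nsh h) = 0 := by
  rw [← cancel_mono (Nι h), Preadditive.nsmul_comp, Category.id_comp, zero_comp]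
  have : p • Nι h = Nι h ≫ (p • 𝟙 (sh Om2F X)) := by rw [Preadditive.comp_nsmul, Category.comp_id]
  rw [this, smul_om2 (h := h), comp_zero]

theorem H_map_nsmul {Y : Scheme.{u}} {G H : EtCoh.Ab Y} (m : ℕ) (a : G ⟶ H) (n : ℕ) (x : EtCoh.H Y G n) :
    Sheaf.H.map (m • a) n x = m • Sheaf.H.map a n x := by
  induction m with
  | zero =>
    rw [zero_smul, zero_smul, Sheaf.H.map_apply, CategoryTheory.Abelian.Ext.mk₀_zero,
      CategoryTheory.Abelian.Ext.comp_zero]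
  | succ m ih => rw [succ_nsmul, succ_nsmul, Sheaf.H.map_add_apply, ih]

theorem smul_H_N (n : ℕ) (x : EtCoh.H X (Nsh h) n) : p • x = 0 := by
  have h1 := H_map_nsmul p (𝟙 (Nsh h)) n x
  rw [smul_N, Sheaf.H.map_id_apply] at h1
  rw [← h1, Sheaf.H.map_apply, CategoryTheory.Abelian.Ext.mk₀_zero, CategoryTheory.Abelian.Ext.comp_zero]

/-- **`H³(P, r_* N) → H³(P, om 1)` is injective**. -/
theorem injective_tN (hX : HasCharts X (GoodN p 2)) (hL : LocSurj₁ S p)
    (hx : ∃ x : EtCoh.H P ((EtCoh.push r).obj (sh Om2F X)) 2, Sheaf.H.map (tK M) 2 x ≠ 0)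
    (hS : ∀ z : EtCoh.H P (K56.T4.Abs.K F p 1) 2, Sheaf.H.map (SK S p 1) 2 z = z)
    (hcyc : ∃ t : EtCoh.H X (Nsh h) 3 →+ K956.Count.T, Function.Injective t) :
    Function.Injective (Sheaf.H.map (tN M) 3) := by
  obtain ⟨t, ht⟩ := hcyc
  obtain ⟨e, he, -⟩ := exists_edge r 3
  refine injective_of_ne hp.out (fun x => ?_) (t.comp (e (Nsh h))) (ht.comp (he _).1) (Sheaf.H.map (tN M) 3)
    (exists_tN_ne M hX hL hx hS)
  apply (he (Nsh h)).1
  rw [map_nsmul, map_zero, smul_H_N]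

/-- **INJ**. -/
theorem inj (h0 : (p ^ N) • 𝟙 F = 0) (n : ℕ) (hN : N = n + 1) (hn : 1 ≤ n) (hX : HasCharts X (GoodN p 2))
    (hL : LocSurj₁ S p)
    (hx : ∃ x : EtCoh.H P ((EtCoh.push r).obj (sh Om2F X)) 2, Sheaf.H.map (tK M) 2 x ≠ 0)
    (hS : ∀ z : EtCoh.H P (K56.T4.Abs.K F p 1) 2, Sheaf.H.map (SK S p 1) 2 z = z)
    (hcyc : ∃ t : EtCoh.H X (Nsh h) 3 →+ K956.Count.T, Function.Injective t)
    (hJ : Function.Injective (Sheaf.H.map (incl S p hn) 3))
    (z : EtCoh.H X (sh (QnF p) X) 3) (hz : Sheaf.H.map ((vN n hn).sh h) 3 z = 0) :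
    Sheaf.H.map (s h) 3 z = 0 := by
  obtain ⟨e, he, hnat⟩ := exists_edge r 3
  obtain ⟨z', rfl⟩ := (he (sh (QnF p) X)).2 z
  rw [← hnat] at hz ⊢
  have h1 : Sheaf.H.map ((EtCoh.push r).map ((vN n hn).sh h)) 3 z' = 0 :=
    (he _).1 (hz.trans (map_zero (e _)).symm)
  have h2 : Sheaf.H.map ((EtCoh.push r).map (s h)) 3 z' = 0 := by
    apply injective_tN M hX hL hx hS hcyc
    apply hJ
    have h3 : Sheaf.H.map ((EtCoh.push r).map ((vN n hn).sh h) ≫ tauN M h0 n hN) 3 z' = 0 := by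
      rw [H_map_comp, h1, map_zero]
    rw [square M h0 n hN hn, H_map_comp, H_map_comp] at h3
    rw [h3, map_zero, map_zero]
  rw [h2, map_zero]

end K593.T3
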