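import Groth.Agent.EtCoh.K593.Final

/-!
# INJ with flexible indices
-/

set_option autoImplicit false
set_option linter.unusedSectionVars false

universe u

open CategoryTheory CategoryTheory.Limits AlgebraicGeometry Opposite TopologicalSpace
open K611.Gam K611.Gam2 K611.Frame K611.Top K611.Sh K611.Seq K611.Seq2 K720.Sym K720.Tw K720.Nu K720.Lev1
open K56.T4 K56.T4.Abs

noncomputable section

namespace K593.T3

attribute [local instance 3000] K554.Mv.hsE K554.Mv.hxE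

variable {p : ℕ} [hp : Fact p.Prime] {X : Scheme.{u}} {h : (p : Γ(X, ⊤)) = 0}

theorem eq_s (s' : sh (QnF p) X ⟶ Nsh h)
    (hs' : ∀ (U : X.Etale) (z : Tn Γ(U.left, ⊤)), (s' ≫ Nι h).hom.app (op U) (un (QnF p) U (cm (A := TnF) z)) =
      un Om2F U (sy z)) : s' = s h := by
  rw [← cancel_mono (Nι h), s_Nι]
  refine K611.Sh.hom_ext _ _ _ fun U a => ?_
  obtain ⟨z, rfl⟩ := cm_surjective (A := TnF) a
  rw [hs', NT.sh_un]
  rfl

/-- The statement INJ, with `q = p` and `k = p^(n-1)`. -/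
theorem inj_q {n : ℕ} (hn : 1 ≤ n)
    (H : ∀ z : EtCoh.H X (sh (QnF p) X) 3, Sheaf.H.map ((vN n hn).sh h) 3 z = 0 → Sheaf.H.map (s h) 3 z = 0)
    {q k : ℕ} (hq : q = p) (hk : k = p ^ (n - 1)) (hd : p ^ n ∣ q * k) (s' : sh (QnF q) X ⟶ Nsh h)
    (hs' : ∀ (U : X.Etale) (z : Tn Γ(U.left, ⊤)), (s' ≫ Nι h).hom.app (op U) (un (QnF q) U (cm (A := TnF) z)) =
      un Om2F U (sy z)) (z : EtCoh.H X (sh (QnF q) X) 3)
    (hz : Sheaf.H.map ((mulN TnF p q (p ^ n) k hd).sh h) 3 z = 0) : Sheaf.H.map s' 3 z = 0 := by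
  subst hq hk
  rw [eq_s s' hs']
  exact H z hz

end K593.T3
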