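import Groth.Agent.EtCoh.K593.FinPush
import Groth.Agent.EtCoh.K56.Abs

/-!
# The sheaf maps of a trace package

For `M : TrPack r p N h F S` with `r` integral, `p^N F = 0`, `N = n + 1`:
* `tauN : r_* Q_n ⟶ om S p n`;
* `tm : r_* Ω²_X ⟶ F`, `tK : r_* Ω²_X ⟶ K F p 1`, `tN : r_* N ⟶ om S p 1`;
* `square : r_* v ≫ tauN = r_* s ≫ tN ≫ incl`.
-/

set_option autoImplicit false
set_option linter.unusedSectionVars false

universe u

open CategoryTheory CategoryTheory.Limits AlgebraicGeometry Opposite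
open K611.Gam K611.Gam2 K611.Frame K611.Top K611.Sh K611.Seq K611.Seq2 K720.Sym K720.Tw K720.Nu K720.Lev1
open K56.T4.Abs

noncomputable section

namespace K593.T3

variable {P X : Scheme.{u}} {r : X ⟶ P} [IsIntegralHom r] {p N : ℕ} [hp : Fact p.Prime] {h : (p : Γ(X, ⊤)) = 0}
  {F : EtCoh.Ab P} {S : F ⟶ F} (M : TrPack r p N h F S)

theorem smul_hom_app {G H : EtCoh.Ab P} (m : ℕ) (φ : G ⟶ H) (V : P.Etale) (s : EtCoh.sect G V) :
    (m • φ).hom.app (op V) s = m • φ.hom.app (op V) s := by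
  have e : m • φ = φ ≫ (m • 𝟙 H) := by rw [Preadditive.comp_nsmul, Category.comp_id]
  rw [e]
  exact K56.T4.Sec.nsmul_app m V _

theorem smul_sect (h0 : (p ^ N) • 𝟙 F = 0) (V : P.Etale) (s : EtCoh.sect F V) : p ^ N • s = 0 := by
  have := congrArg (fun f : F ⟶ F => f.hom.app (op V) s) h0
  exact (K56.T4.Sec.nsmul_app (p ^ N) V s).symm.trans this

section tau

variable (h0 : (p ^ N) • 𝟙 F = 0) (n : ℕ) (hN : N = n + 1)

include h0 hN in
theorem pn_tau (V : P.Etale) (hV : M.Bs V) (z : Tn (RB r V)) : p ^ n • (p • M.τ V hV z) = 0 := by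
  rw [smul_smul, ← pow_succ, ← hN]
  exact smul_sect h0 V _

/-- `p τ` on `Q_n`. -/
def phiT (V : P.Etale) (hV : M.Bs V) : (QnF (p ^ n)).obj Γ(((EtCoh.bc r).obj V).left, ⊤) →+ EtCoh.sect F V :=
  mlift (A := TnF) (p • M.τ V hV) (fun z => pn_tau M h0 n hN V hV z)

theorem phiT_cm (V : P.Etale) (hV : M.Bs V) (z : Tn (RB r V)) :
    phiT M h0 n hN V hV (cm (A := TnF) z) = p • M.τ V hV z := rfl

include h0 hN in
theorem exists_tau0 : ∃ Ψ : (EtCoh.push r).obj (sh (QnF (p ^ n)) X) ⟶ F, ∀ (V : P.Etale) (hV : M.Bs V)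
    (z : Tn (RB r V)), Ψ.hom.app (op V) (un (QnF (p ^ n)) ((EtCoh.bc r).obj V) (cm (A := TnF) z)) = p • M.τ V hV z := by
  obtain ⟨Ψ, hΨ⟩ := exists_push_hom M.bas (surjPush_tn r (p ^ n)) F (phiT M h0 n hN)
    (by
      intro V W hV hW g s
      obtain ⟨z, rfl⟩ := cm_surjective (A := TnF) s
      have e : res (QnF (p ^ n)) ((EtCoh.bc r).map g) (cm (A := TnF) z) = cm (A := TnF) (tmap (rb r g) z) := rfl
      rw [e, phiT_cm, phiT_cm, M.τ_nat V W hV hW g z, map_nsmul])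
    (by
      intro V hV a ha
      obtain ⟨z, rfl⟩ := cm_surjective (A := TnF) a
      have := M.τ_ker V hV n (by omega) z ha
      have e : N - n = 1 := by omega
      rw [e, pow_one] at this
      exact this)
  exact ⟨Ψ, fun V hV z => hΨ V hV _⟩

/-- The symbol trace with values in `F`. -/
def tau0 : (EtCoh.push r).obj (sh (QnF (p ^ n)) X) ⟶ F := (exists_tau0 M h0 n hN).choose

theorem tau0_un (V : P.Etale) (hV : M.Bs V) (z : Tn (RB r V)) :
    (tau0 M h0 n hN).hom.app (op V) (un (QnF (p ^ n)) ((EtCoh.bc r).obj V) (cm (A := TnF) z)) = p • M.τ V hV z :=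
  (exists_tau0 M h0 n hN).choose_spec V hV z

theorem tau0_smul : (p ^ n) • tau0 M h0 n hN = 0 := by
  refine push_hom_ext M.bas (surjPush_tn r (p ^ n)) fun V hV a => ?_
  obtain ⟨z, rfl⟩ := cm_surjective (A := TnF) a
  rw [smul_hom_app, tau0_un M h0 n hN V hV, pn_tau M h0 n hN V hV]
  rfl

theorem tau0_S : tau0 M h0 n hN ≫ S = tau0 M h0 n hN := by
  refine push_hom_ext M.bas (surjPush_tn r (p ^ n)) fun V hV a => ?_
  obtain ⟨z, rfl⟩ := cm_surjective (A := TnF) a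
  change S.hom.app (op V) ((tau0 M h0 n hN).hom.app (op V) _) = _
  rw [tau0_un M h0 n hN V hV, map_nsmul]
  exact M.τ_S V hV z

/-- The symbol trace `r_* Q_n ⟶ om n`. -/
def tauN : (EtCoh.push r).obj (sh (QnF (p ^ n)) X) ⟶ om S p n :=
  oLift S p n (tau0 M h0 n hN) (tau0_smul M h0 n hN) (tau0_S M h0 n hN)

theorem tauN_oi : tauN M h0 n hN ≫ oi S p n = tau0 M h0 n hN := oLift_oi _ _ _ _ _ _

end tau

/-! ### Two-forms -/

theorem exists_tm : ∃ Ψ : (EtCoh.push r).obj (sh Om2F X) ⟶ F, ∀ (V : P.Etale) (hV : M.Bs V)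
    (η : Om2 (RB r V)), Ψ.hom.app (op V) (un Om2F ((EtCoh.bc r).obj V) η) = M.TR V hV η := by
  obtain ⟨Ψ, hΨ⟩ := exists_push_hom M.bas (surjPush_om2 r) F (fun V hV => M.TR V hV)
    (by
      intro V W hV hW g s
      exact M.TR_nat V W hV hW g s)
    (by
      intro V hV a ha
      have h1 := (K56.T4.Sec.un_bijective ((EtCoh.bc r).obj V) (isAffine_bc r V (M.aff V hV))).1
        (a₁ := a) (a₂ := 0) (by rw [ha]; exact (map_zero _).symm)
      rw [h1]
      exact map_zero _)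
  exact ⟨Ψ, fun V hV z => hΨ V hV _⟩

/-- The trace of two-forms with values in `F`. -/
def tm : (EtCoh.push r).obj (sh Om2F X) ⟶ F := (exists_tm M).choose

theorem tm_un (V : P.Etale) (hV : M.Bs V) (η : Om2 (RB r V)) :
    (tm M).hom.app (op V) (un Om2F ((EtCoh.bc r).obj V) η) = M.TR V hV η :=
  (exists_tm M).choose_spec V hV η

theorem exists_om2 (V : P.Etale) (hV : M.Bs V) (s : EtCoh.sect (sh Om2F X) ((EtCoh.bc r).obj V)) :
    ∃ η : Om2 (RB r V), un Om2F ((EtCoh.bc r).obj V) η = s :=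
  (K56.T4.Sec.un_bijective ((EtCoh.bc r).obj V) (isAffine_bc r V (M.aff V hV))).2 s

theorem tm_smul : p • tm M = 0 := by
  refine push_hom_ext M.bas (surjPush_om2 r) fun V hV a => ?_
  rw [smul_hom_app, tm_un M V hV a, M.TR_p]
  rfl

theorem tm_smul' : p ^ 1 • tm M = 0 := by rw [pow_one, tm_smul]

/-- The trace of two-forms, to the `p`-torsion. -/
def tK : (EtCoh.push r).obj (sh Om2F X) ⟶ K56.T4.Abs.K F p 1 := kLift p 1 (tm M) (tm_smul' M)

theorem tK_ki : tK M ≫ ki F p 1 = tm M := kLift_ki _ _ _ _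

/-- The trace on `N`. -/
def tN0 : (EtCoh.push r).obj (Nsh h) ⟶ F := (EtCoh.push r).map (Nι h) ≫ tm M

theorem cl2_gam2_of_N (U : X.Etale) (s : EtCoh.sect (Nsh h) U) :
    ap ((cl2N p).sh h) U (ap (Nι h) U s) = ap ((gam2N p).sh h) U (ap (Nι h) U s) := by
  have h1 := congrArg (fun f : Nsh h ⟶ sh Q2F X => f.hom.app (op U) s) (Nι_cg2 h)
  have h2 : ap ((cg2N p).sh h) U (ap (Nι h) U s) = 0 := h1
  have h3 : (cg2N p).sh h = (cl2N p).sh h - (gam2N p).sh (X := X) h := NT.sh_sub _ _ _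
  rw [h3] at h2
  have h4 : ap ((cl2N p).sh h - (gam2N p).sh (X := X) h) U (ap (Nι h) U s) =
      ap ((cl2N p).sh h) U (ap (Nι h) U s) - ap ((gam2N p).sh h) U (ap (Nι h) U s) := rfl
  rw [h4, sub_eq_zero] at h2
  exact h2

theorem tN0_S : tN0 M ≫ S = tN0 M := by
  refine K56.T4.Base.hom_ext M.bas fun V hV s => ?_
  obtain ⟨η, hη⟩ := exists_om2 M V hV (ap (Nι h) ((EtCoh.bc r).obj V) s)
  have e1 : (tN0 M).hom.app (op V) s = M.TR V hV η := by
    change (tm M).hom.app (op V) (ap (Nι h) ((EtCoh.bc r).obj V) s) = _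
    rw [← hη]
    exact tm_un M V hV η
  change S.hom.app (op V) ((tN0 M).hom.app (op V) s) = _
  rw [e1]
  refine M.TR_S V hV η η ?_
  rw [hη]
  exact cl2_gam2_of_N _ s

theorem tN0_smul : p ^ 1 • tN0 M = 0 := by
  unfold tN0
  rw [← Preadditive.comp_nsmul, tm_smul', comp_zero]

/-- The trace `r_* N ⟶ om 1`. -/
def tN : (EtCoh.push r).obj (Nsh h) ⟶ om S p 1 := oLift S p 1 (tN0 M) (tN0_smul M) (tN0_S M)

theorem tN_oi : tN M ≫ oi S p 1 = tN0 M := oLift_oi _ _ _ _ _ _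

theorem tN_ok : tN M ≫ ok S p 1 = (EtCoh.push r).map (Nι h) ≫ tK M := by
  rw [← cancel_mono (ki F p 1), Category.assoc, Category.assoc, tK_ki]
  exact tN_oi M

/-! ### The square -/

/-- Multiplication by `p^(n-1)` from `Q_1` to `Q_n`. -/
def vN (n : ℕ) (hn : 1 ≤ n) : NT.{u} p (QnF p) (QnF (p ^ n)) :=
  mulN TnF p p (p ^ n) (p ^ (n - 1)) (by
    rw [← pow_succ']
    have : n - 1 + 1 = n := by omega
    rw [this])

theorem vN_cm (n : ℕ) (hn : 1 ≤ n) {B : CommRingCat.{u}} (hB : (p : B) = 0) (z : Tn B) :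
    (vN (p := p) n hn).app B hB (cm (A := TnF) z) = cm (A := TnF) (p ^ (n - 1) • z) := by
  have h1 : (vN (p := p) n hn).app B hB (cm (A := TnF) z) = p ^ (n - 1) • cm (A := TnF) (B := B) (m := p ^ n) z := rfl
  rw [h1]
  exact (map_nsmul (cm (A := TnF) (B := B) (m := p ^ n)) _ _).symm

theorem square (h0 : (p ^ N) • 𝟙 F = 0) (n : ℕ) (hN : N = n + 1) (hn : 1 ≤ n) :
    (EtCoh.push r).map ((vN n hn).sh h) ≫ tauN M h0 n hN = (EtCoh.push r).map (s h) ≫ tN M ≫ incl S p hn := by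
  rw [← cancel_mono (oi S p n), Category.assoc, Category.assoc, Category.assoc, incl_oi, tN_oi, tauN_oi]
  unfold tN0
  rw [← Category.assoc ((EtCoh.push r).map (s h)), ← Functor.map_comp, s_Nι]
  refine push_hom_ext M.bas (surjPush_tn r p) fun V hV a => ?_
  obtain ⟨z, rfl⟩ := cm_surjective (A := TnF) a
  have h0V := Groth.Agent.CurvesA.ArtinSchreier.cast_eq_zero_of_etale X p h ((EtCoh.bc r).obj V)
  have e1 : ((EtCoh.push r).map ((vN n hn).sh h) ≫ tau0 M h0 n hN).hom.app (op V)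
      (un (QnF p) ((EtCoh.bc r).obj V) (cm (A := TnF) z)) = p • M.τ V hV (p ^ (n - 1) • z) := by
    change (tau0 M h0 n hN).hom.app (op V) (((vN n hn).sh h).hom.app (op ((EtCoh.bc r).obj V))
      (un (QnF p) ((EtCoh.bc r).obj V) (cm (A := TnF) z))) = _
    rw [NT.sh_un, vN_cm]
    exact tau0_un M h0 n hN V hV _
  have e2 : ((EtCoh.push r).map ((syN p).sh h) ≫ tm M).hom.app (op V)
      (un (QnF p) ((EtCoh.bc r).obj V) (cm (A := TnF) z)) = M.TR V hV (sy z) := by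
    change (tm M).hom.app (op V) (((syN p).sh h).hom.app (op ((EtCoh.bc r).obj V))
      (un (QnF p) ((EtCoh.bc r).obj V) (cm (A := TnF) z))) = _
    rw [NT.sh_un]
    exact tm_un M V hV _
  have e3 : M.τ V hV (p ^ (n - 1) • z) = p ^ (n - 1) • M.τ V hV z := map_nsmul (M.τ V hV) _ _
  rw [e1, e2, ← M.TR_τ, e3, smul_smul, ← pow_succ']
  congr 2
  omega

end K593.T3
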