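import Groth.Agent.EtCoh.K720.Lev1Tw
import Groth.Agent.EtCoh.K56.Base

/-!
# Interface for the trace maps of a finite morphism from a surface in characteristic `p` to a plane of level `N`

`TrPack r p N h F S`: natural maps `τ : Tn Γ(X ×_P V) → F(V)` and `TR : Ω²(Γ(X ×_P V)) → F(V)` on a basis of the étale
site of `P`, with the properties used in the injectivity theorem (S18107).
-/

set_option autoImplicit false

universe u

open CategoryTheory CategoryTheory.Limits AlgebraicGeometry Opposite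
open K611.Gam K611.Gam2 K611.Frame K611.Top K611.Sh K611.Seq K611.Seq2 K720.Sym K720.Tw K720.Nu K720.Lev1

noncomputable section

namespace K593.T3

/-- The ring of functions on `X ×_P V`. -/
abbrev RB {P X : Scheme.{u}} (r : X ⟶ P) (V : P.Etale) : Type u := Γ(((EtCoh.bc r).obj V).left, ⊤)

/-- Restriction along `V' ⟶ V` of functions on `X ×_P V`. -/
abbrev rb {P X : Scheme.{u}} (r : X ⟶ P) {V V' : P.Etale} (g : V' ⟶ V) : RB r V →+* RB r V' :=
  ((EtCoh.bc r).map g).left.appTop.hom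

/-- The structure map. -/
abbrev sb' {P X : Scheme.{u}} (r : X ⟶ P) (V : P.Etale) : Γ(V.left, ⊤) →+* RB r V :=
  (pullback.fst V.hom r).appTop.hom

/-- The trace maps of `r : X ⟶ P` with values in a sheaf `F` with an operator `S` (`F` = two-forms of a plane of level `N`,
`S` the Cartier operator). -/
structure TrPack {P X : Scheme.{u}} (r : X ⟶ P) (p N : ℕ) [Fact p.Prime] (h : (p : Γ(X, ⊤)) = 0) (F : EtCoh.Ab P)
    (S : F ⟶ F) where
  /-- the basis -/
  Bs : P.Etale → Prop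
  bas : K56.T4.Base.IsBasis Bs
  aff : ∀ V, Bs V → IsAffine V.left
  /-- the symbol trace -/
  τ : ∀ V, Bs V → (Tn (RB r V) →+ EtCoh.sect F V)
  τ_nat : ∀ (V V' : P.Etale) (hV : Bs V) (hV' : Bs V') (g : V' ⟶ V) (z : Tn (RB r V)),
    τ V' hV' (tmap (rb r g) z) = rs F g (τ V hV z)
  τ_S : ∀ V hV z, p • ap S V (τ V hV z) = p • τ V hV z
  τ_ker : ∀ V hV (n : ℕ), n ≤ N → ∀ z : Tn (RB r V),
    un (QnF (p ^ n)) ((EtCoh.bc r).obj V) (cm (A := TnF) z) = 0 → p ^ (N - n) • τ V hV z = 0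
  /-- the trace of two-forms, multiplied by `p^(N-1)` -/
  TR : ∀ V, Bs V → (Om2 (RB r V) →+ EtCoh.sect F V)
  TR_nat : ∀ (V V' : P.Etale) (hV : Bs V) (hV' : Bs V') (g : V' ⟶ V) (η : Om2 (RB r V)),
    TR V' hV' (omap2 (rb r g) η) = rs F g (TR V hV η)
  TR_p : ∀ V hV η, p • TR V hV η = 0
  TR_τ : ∀ V hV z, p ^ (N - 1) • τ V hV z = TR V hV (sy z)
  TR_S : ∀ V hV (ζ η : Om2 (RB r V)),
    ap ((cl2N p).sh h) ((EtCoh.bc r).obj V) (un Om2F _ ζ) = ap ((gam2N p).sh h) ((EtCoh.bc r).obj V) (un Om2F _ η) →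
    ap S V (TR V hV ζ) = TR V hV η

end K593.T3
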